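import Groth.Agent.ResProp.EF.K742.GO
import Groth.Agent.ResProp.EF.K741.ComodAb
import Mathlib.CategoryTheory.Abelian.ShortExact
import Mathlib.Algebra.Homology.ShortComplex.ExactFunctor
import Mathlib.RingTheory.Flat.Basic
import Mathlib.LinearAlgebra.TensorProduct.RightExactness
import Mathlib.LinearAlgebra.TensorProduct.Tower
import Mathlib.Algebra.Category.ModuleCat.Monoidal.Closed

/-!
# The functor `- ⊗_k W` on `Comod A` (`K742.tensC`): exactness, colimits, the chart
-/

set_option autoImplicit false
set_option linter.style.haveILetI false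
set_option linter.dupNamespace false
set_option linter.unusedSectionVars false

open CategoryTheory CategoryTheory.Limits Opposite TensorProduct

noncomputable section

namespace Groth.Agent.ResProp.EF.K686.TensC

open K784.BC K784.PM K741.RP EF56 K742

universe u

/-- short exact sequences of modules -/
theorem shortExact_modules {R : Type u} [Ring R] (S : ShortComplex (ModuleCat.{u} R)) :
    S.ShortExact ↔ Function.Injective S.f.hom ∧ Function.Exact S.f.hom S.g.hom ∧ Function.Surjective S.g.hom := by
  constructor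
  · intro h
    exact ⟨(ModuleCat.mono_iff_injective _).1 h.mono_f, (ShortComplex.ShortExact.moduleCat_exact_iff_function_exact S).1 h.exact,
      (ModuleCat.epi_iff_surjective _).1 h.epi_g⟩
  · rintro ⟨h1, h2, h3⟩
    haveI := (ModuleCat.mono_iff_injective S.f).2 h1
    haveI := (ModuleCat.epi_iff_surjective S.g).2 h3
    exact ⟨(ShortComplex.ShortExact.moduleCat_exact_iff_function_exact S).2 h2⟩

section TM

variable {k R : Type u} [CommRing k] [CommRing R] (κ : k →+* R) (W : Type u) [AddCommGroup W] [Module k W]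
variable {M M' M'' : Type u} [AddCommGroup M] [Module R M] [AddCommGroup M'] [Module R M'] [AddCommGroup M''] [Module R M'']

theorem TM_inj [Module.Flat k W] (f : M →ₗ[R] M') (hf : Function.Injective f) :
    Function.Injective (TM.map κ f (LinearMap.id : W →ₗ[k] W)) := by
  letI := κ.toAlgebra
  letI : Module k M := Module.compHom M κ
  letI : Module k M' := Module.compHom M' κ
  haveI : IsScalarTower k R M := ⟨fun a b n => mul_smul (κ a) b n⟩
  haveI : IsScalarTower k R M' := ⟨fun a b n => mul_smul (κ a) b n⟩
  have h := Module.Flat.rTensor_preserves_injective_linearMap (M := W) (f.restrictScalars k) hf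
  have e : ∀ x : TM κ M W, TM.map κ f (LinearMap.id : W →ₗ[k] W) x = (f.restrictScalars k).rTensor W x := by
    intro x
    induction x using TM.induction with
    | zero => rw [map_zero]; exact (map_zero ((f.restrictScalars k).rTensor W)).symm
    | tm m w => rw [TM.map_tm]; rfl
    | add x y hx hy => rw [map_add, hx, hy]; exact (map_add ((f.restrictScalars k).rTensor W) _ _).symm
  intro x y hxy
  rw [e, e] at hxy
  exact h hxy

theorem TM_map_eq (f : M →ₗ[R] M') :
    letI := κ.toAlgebra
    letI : Module k M := Module.compHom M κ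
    letI : Module k M' := Module.compHom M' κ
    haveI : IsScalarTower k R M := ⟨fun a b n => mul_smul (κ a) b n⟩
    haveI : IsScalarTower k R M' := ⟨fun a b n => mul_smul (κ a) b n⟩
    (TM.map κ f (LinearMap.id : W →ₗ[k] W) : TM κ M W → TM κ M' W) = ((f.restrictScalars k).rTensor W : M ⊗[k] W → M' ⊗[k] W) := by
  letI := κ.toAlgebra
  letI : Module k M := Module.compHom M κ
  letI : Module k M' := Module.compHom M' κ
  haveI : IsScalarTower k R M := ⟨fun a b n => mul_smul (κ a) b n⟩
  haveI : IsScalarTower k R M' := ⟨fun a b n => mul_smul (κ a) b n⟩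
  funext x
  induction x using TM.induction with
  | zero => rw [map_zero]; exact (map_zero ((f.restrictScalars k).rTensor W)).symm
  | tm m w => rw [TM.map_tm]; rfl
  | add x y hx hy => rw [map_add, hx, hy]; exact (map_add ((f.restrictScalars k).rTensor W) _ _).symm

theorem TM_exact (f : M →ₗ[R] M') (g : M' →ₗ[R] M'') (h : Function.Exact f g) (hg : Function.Surjective g) :
    Function.Exact (TM.map κ f (LinearMap.id : W →ₗ[k] W)) (TM.map κ g (LinearMap.id : W →ₗ[k] W)) ∧
      Function.Surjective (TM.map κ g (LinearMap.id : W →ₗ[k] W)) := by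
  rw [TM_map_eq, TM_map_eq]
  letI := κ.toAlgebra
  letI : Module k M := Module.compHom M κ
  letI : Module k M' := Module.compHom M' κ
  letI : Module k M'' := Module.compHom M'' κ
  haveI : IsScalarTower k R M := ⟨fun a b n => mul_smul (κ a) b n⟩
  haveI : IsScalarTower k R M' := ⟨fun a b n => mul_smul (κ a) b n⟩
  haveI : IsScalarTower k R M'' := ⟨fun a b n => mul_smul (κ a) b n⟩
  exact ⟨rTensor_exact W (f := f.restrictScalars k) (g := g.restrictScalars k) h hg,
    LinearMap.rTensor_surjective W (g := g.restrictScalars k) hg⟩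

variable (M) in
/-- `M ⊗_k W = M ⊗_R (R ⊗_k W)` -/
def bcE : TM κ M W ≃ₗ[R] M ⊗[R] (TM κ R W) :=
  letI := κ.toAlgebra
  letI : Module k M := Module.compHom M κ
  haveI : IsScalarTower k R M := ⟨fun a b n => mul_smul (κ a) b n⟩
  (TensorProduct.AlgebraTensorModule.cancelBaseChange k R R M W).symm

theorem bcE_tm (m : M) (w : W) : bcE κ W M (TM.tm κ m w) = m ⊗ₜ[R] TM.tm κ (1 : R) w := rfl

end TM

variable {k : Type u} [CommRing k] {A : NFᵒᵖ ⥤ CommRingCat.{u}} (s : KS k A)

section Ex

variable (W : Type u) [AddCommGroup W] [Module k W]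

instance : (tensC s W).Additive where
  map_add {M N f g} := by
    apply ObjectProperty.hom_ext
    exact (tensP s W).map_add (f := f.hom) (g := g.hom)

variable [Fact (GR A)]

theorem shortExact_tensC [Module.Flat k W] (S : ShortComplex (Comod A)) (hS : S.ShortExact) :
    (S.map (tensC s W)).ShortExact := by
  refine CategoryTheory.ShortExact.reflects_shortExact_of_faithful (vst A) ?_
  obtain ⟨h1, h2, h3⟩ := (shortExact_modules _).1 (hS.map_of_exact (vst A))
  refine (shortExact_modules _).2 ⟨?_, ?_, ?_⟩
  · exact TM_inj (s.κ (op ⟨0⟩)) W (lv S.f.hom (op ⟨0⟩)) h1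
  · exact (TM_exact (s.κ (op ⟨0⟩)) W (lv S.f.hom (op ⟨0⟩)) (lv S.g.hom (op ⟨0⟩)) h2 h3).1
  · exact (TM_exact (s.κ (op ⟨0⟩)) W (lv S.f.hom (op ⟨0⟩)) (lv S.g.hom (op ⟨0⟩)) h2 h3).2

theorem exact_tensC [Module.Flat k W] : PreservesFiniteLimits (tensC s W) ∧ PreservesFiniteColimits (tensC s W) :=
  ((Functor.exact_tfae (tensC s W)).out 0 3).1 (shortExact_tensC s W)

instance [Module.Flat k W] : PreservesFiniteLimits (tensC s W) := (exact_tensC s W).1

/-- on the chart: `M ⊗_k W = M ⊗_R (R ⊗_k W)` -/
def vstTensC : tensC s W ⋙ vst A ≅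
    vst A ⋙ MonoidalCategory.tensorRight (ModuleCat.of (A.obj (op ⟨0⟩)) (TM (s.κ (op ⟨0⟩)) (A.obj (op ⟨0⟩)) W)) :=
  NatIso.ofComponents (fun M => LinearEquiv.toModuleIso (bcE (s.κ (op ⟨0⟩)) W (M.obj.obj (op ⟨0⟩))))
    (fun {M N} f => by
      ext x
      change bcE (s.κ (op ⟨0⟩)) W (N.obj.obj (op ⟨0⟩)) (TM.map (s.κ (op ⟨0⟩)) (lv f.hom (op ⟨0⟩)) (LinearMap.id : W →ₗ[k] W) x) =
        (lv f.hom (op ⟨0⟩)).rTensor _ (bcE (s.κ (op ⟨0⟩)) W (M.obj.obj (op ⟨0⟩)) x)
      induction x using TM.induction with
      | zero => simp only [map_zero]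
      | tm m w =>
        rw [TM.map_tm, bcE_tm, bcE_tm]
        rfl
      | add x y hx hy => simp only [map_add, hx, hy])

instance : PreservesColimitsOfSize.{u, u} (tensC s W) := by
  haveI : ReflectsColimitsOfSize.{u, u} (vst A) := reflectsColimits_of_reflectsIsomorphisms
  haveI : PreservesColimitsOfSize.{u, u} (tensC s W ⋙ vst A) :=
    preservesColimits_of_natIso (vstTensC s W).symm
  exact preservesColimits_of_reflects_of_preserves _ (vst A)

instance : PreservesFiniteColimits (tensC s W) := PreservesColimits.preservesFiniteColimits _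

end Ex

section GO

variable (O : Type u) [AddCommGroup O] [Module k O] [Coalgebra k O]

instance : (GO s O).toFunctor.Additive := inferInstanceAs (tensC s O).Additive

variable [Fact (GR A)]

instance [Module.Flat k O] : PreservesFiniteLimits (GO s O).toFunctor :=
  inferInstanceAs (PreservesFiniteLimits (tensC s O))

instance : PreservesColimitsOfSize.{u, u} (GO s O).toFunctor :=
  inferInstanceAs (PreservesColimitsOfSize.{u, u} (tensC s O))

instance : PreservesFiniteColimits (GO s O).toFunctor :=
  inferInstanceAs (PreservesFiniteColimits (tensC s O))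

end GO

end Groth.Agent.ResProp.EF.K686.TensC

end
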