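import Groth.Agent.ResProp.EF.K686.SObj

/-!
# From the chart to `Arch.Pure`: the action of `D` on all levels
-/

set_option autoImplicit false
set_option linter.style.haveILetI false
set_option linter.dupNamespace false

open CategoryTheory Opposite TensorProduct

noncomputable section

namespace Groth.Agent.ResProp.EF.K686

open K784.BC K784.PM EF56 K985 Arch Grp K741.RP

universe w' w u

variable {A : NFᵒᵖ ⥤ CommRingCat.{u}}

/-- `D` as a presheaf of modules over `A`. -/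
def dPM (Y : AffOver A) : PM.{u} A where
  obj a := Y.D.obj (op a)
  map φ := (rg Y.D φ).toAddMonoidHom
  map_smul {x z} φ r d := by
    change rg Y.D φ ((Y.j.app (op z)).hom r * d) = (Y.j.app (op x)).hom (rg A φ r) * rg Y.D φ d
    rw [map_mul]
    have := congrArg (fun f => f.hom r) (Y.j.naturality φ.op)
    exact congrArg (· * rg Y.D φ d) this.symm
  map_id z m := by
    change rg Y.D (𝟙 z) m = m
    rw [rg_id]
    rfl
  map_comp ψ φ m := by
    change rg Y.D (ψ ≫ φ) m = rg Y.D ψ (rg Y.D φ m)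
    rw [rg_comp]
    rfl

/-- `D⟨a⟩` is the base change of `D⟨b⟩`. -/
theorem bcD (Y : AffOver A) {a b : NF} (φ : a ⟶ b) : IsBC (rg A φ) (rg Y.D φ).toAddMonoidHom :=
  IsBC.of_po (Y.cart φ) (fun _ _ => rfl) (fun _ _ => rfl) (isBC_self (rg Y.D φ))

theorem dPM_cart (Y : AffOver A) : (dPM Y).Cart := fun _ _ φ => bcD Y φ

theorem rgD_smul (Y : AffOver A) {a b : NF} (φ : a ⟶ b) (r : A.obj (op b)) (x : Y.D.obj (op b)) :
    rg Y.D φ (r • x) = rg A φ r • rg Y.D φ x := (dPM Y).map_smul φ r x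

section Act

variable (Y : AffOver A) (M : PM.{u} A) (hM : M.Cart) [Module (Y.D.obj (op ⟨0⟩)) (M.obj ⟨0⟩)]
  (tow : ∀ (r : A.obj (op ⟨0⟩)) (m : M.obj ⟨0⟩), algebraMap (A.obj (op ⟨0⟩)) (Y.D.obj (op ⟨0⟩)) r • m = r • m)

/-- multiplication by `d` on the chart. -/
def mul0 (d : Y.D.obj (op ⟨0⟩)) : M.obj ⟨0⟩ →ₗ[A.obj (op ⟨0⟩)] M.obj ⟨0⟩ where
  toFun m := d • m
  map_add' := smul_add d
  map_smul' r m := by
    rw [← tow, smul_smul, mul_comm, ← smul_smul, tow]
    rfl

include hM tow in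
/-- the action on level `a`. -/
theorem exists_Φ (a : NF) : ∃ Φ : Y.D.obj (op a) →ₗ[A.obj (op a)] (M.obj a →ₗ[A.obj (op a)] M.obj a),
    ∀ (d : Y.D.obj (op ⟨0⟩)) (m : M.obj ⟨0⟩),
      Φ (rg Y.D (p1 (n := a.n) 0) d) (M.map (p1 (n := a.n) 0) m) = M.map (p1 (n := a.n) 0) (d • m) := by
  let ψ : Y.D.obj (op ⟨0⟩) →+ (M.obj a →ₗ[A.obj (op a)] M.obj a) :=
    { toFun := fun d => PM.pl hM (p1 (n := a.n) 0) (mul0 Y M tow d)
      map_zero' := by
        have : mul0 Y M tow 0 = 0 := LinearMap.ext fun m => zero_smul _ m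
        rw [this, map_zero]
      map_add' := fun d d' => by
        have : mul0 Y M tow (d + d') = mul0 Y M tow d + mul0 Y M tow d' := LinearMap.ext fun m => add_smul _ _ m
        rw [this, map_add] }
  obtain ⟨Φ, h, -⟩ := (bcD Y (p1 (n := a.n) 0)).existsUnique_lift ψ (fun r d => by
    have : mul0 Y M tow (r • d) = r • mul0 Y M tow d := LinearMap.ext fun m => by
      change (algebraMap (A.obj (op ⟨0⟩)) (Y.D.obj (op ⟨0⟩)) r * d) • m = r • (d • m)
      rw [← smul_smul, tow]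
    change PM.pl hM _ (mul0 Y M tow (r • d)) = _ • PM.pl hM _ (mul0 Y M tow d)
    rw [this, PM.pl_smul])
  refine ⟨Φ, fun d m => ?_⟩
  have e : Φ (rg Y.D (p1 (n := a.n) 0) d) = PM.pl hM (p1 (n := a.n) 0) (mul0 Y M tow d) := h d
  rw [e, PM.pl_apply]
  rfl

end Act

/-- an action of `D` on `M`, all levels. -/
structure DAct (Y : AffOver A) (M : PM.{u} A) where
  Φ : ∀ a : NF, Y.D.obj (op a) →ₗ[A.obj (op a)] (M.obj a →ₗ[A.obj (op a)] M.obj a)
  map_Φ : ∀ ⦃a b : NF⦄ (φ : a ⟶ b) (d : Y.D.obj (op b)) (m : M.obj b),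
    M.map φ (Φ b d m) = Φ a (rg Y.D φ d) (M.map φ m)
  one : ∀ (a : NF) (m : M.obj a), Φ a 1 m = m
  mul : ∀ (a : NF) (d d' : Y.D.obj (op a)) (m : M.obj a), Φ a (d * d') m = Φ a d (Φ a d' m)

/-- biadditive semilinear maps on `D⟨b⟩ × M⟨b⟩` agree if they agree on the chart. -/
theorem bi_ext {Y : AffOver A} {M : PM.{u} A} (hM : M.Cart) {a b : NF} (φ : a ⟶ b) {ψ : b ⟶ ⟨0⟩} {Q : Type w}
    [AddCommGroup Q] [Module (A.obj (op a)) Q] (F G : Y.D.obj (op b) →+ (M.obj b →+ Q))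
    (F1 : ∀ r d m, F (r • d) m = rg A φ r • F d m) (F2 : ∀ (r : A.obj (op b)) d m, F d (r • m) = rg A φ r • F d m)
    (G1 : ∀ r d m, G (r • d) m = rg A φ r • G d m) (G2 : ∀ (r : A.obj (op b)) d m, G d (r • m) = rg A φ r • G d m)
    (h : ∀ d m, F (rg Y.D ψ d) (M.map ψ m) = G (rg Y.D ψ d) (M.map ψ m)) (d : Y.D.obj (op b)) (m : M.obj b) :
    F d m = G d m := by
  induction d using (bcD Y ψ).induction with
  | zero => simp only [map_zero, AddMonoidHom.zero_apply]
  | map d0 =>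
    induction m using (hM ψ).induction with
    | zero => simp only [map_zero]
    | map m0 => exact h d0 m0
    | smul r m hm => rw [F2, G2, hm]
    | add x y hx hy => rw [map_add, map_add, hx, hy]
  | smul r d hd =>
    have e1 := F1 r d m
    have e2 := G1 r d m
    rw [hd] at e1
    exact e1.trans e2.symm
  | add x y hx hy =>
    change F ((x : Y.D.obj (op b)) + y) m = G ((x : Y.D.obj (op b)) + y) m
    rw [map_add, map_add, AddMonoidHom.add_apply, AddMonoidHom.add_apply, hx, hy]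

/-- **the action of `D` on all levels from the chart**. -/
theorem exists_dAct (Y : AffOver A) (M : PM.{u} A) (hM : M.Cart) [Module (Y.D.obj (op ⟨0⟩)) (M.obj ⟨0⟩)]
    (tow : ∀ (r : A.obj (op ⟨0⟩)) (m : M.obj ⟨0⟩), algebraMap (A.obj (op ⟨0⟩)) (Y.D.obj (op ⟨0⟩)) r • m = r • m)
    (a1 : Y.D.obj (op ⟨1⟩) →ₗ[A.obj (op ⟨1⟩)] (M.obj ⟨1⟩ →ₗ[A.obj (op ⟨1⟩)] M.obj ⟨1⟩))
    (h0 : ∀ d m, a1 (rg Y.D (p1 (n := 1) 0) d) (M.map (p1 (n := 1) 0) m) = M.map (p1 (n := 1) 0) (d • m))
    (h1 : ∀ d m, a1 (rg Y.D (p1 (n := 1) 1) d) (M.map (p1 (n := 1) 1) m) = M.map (p1 (n := 1) 1) (d • m)) :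
    ∃ α : DAct Y M, ∀ d m, α.Φ ⟨0⟩ d m = d • m := by
  choose Φ hΦ using fun a => exists_Φ Y M hM tow a
  -- vertices
  have hv : ∀ (a : NF) (i : Fin (a.n + 1)) (d : Y.D.obj (op ⟨0⟩)) (m : M.obj ⟨0⟩),
      Φ a (rg Y.D (p1 (n := a.n) i) d) (M.map (p1 (n := a.n) i) m) = M.map (p1 (n := a.n) i) (d • m) := by
    intro a i d m
    let F : Y.D.obj (op ⟨1⟩) →+ (M.obj ⟨1⟩ →+ M.obj a) := AddMonoidHom.mk' (fun x => AddMonoidHom.mk' (fun y =>
      Φ a (rg Y.D (p2 (n := a.n) 0 i) x) (M.map (p2 (n := a.n) 0 i) y)) (fun y y' => by rw [map_add, map_add]))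
      (fun x x' => AddMonoidHom.ext fun y => by
        change Φ a (rg Y.D _ (x + x')) (M.map _ y) = Φ a (rg Y.D _ x) (M.map _ y) + Φ a (rg Y.D _ x') (M.map _ y)
        rw [map_add, map_add, LinearMap.add_apply])
    let G : Y.D.obj (op ⟨1⟩) →+ (M.obj ⟨1⟩ →+ M.obj a) := AddMonoidHom.mk' (fun x => AddMonoidHom.mk' (fun y =>
      M.map (p2 (n := a.n) 0 i) (a1 x y)) (fun y y' => by rw [map_add, map_add]))
      (fun x x' => AddMonoidHom.ext fun y => by
        change M.map _ (a1 (x + x') y) = M.map _ (a1 x y) + M.map _ (a1 x' y)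
        rw [map_add, LinearMap.add_apply, map_add])
    have hr : ∀ (r : A.obj (op ⟨1⟩)) (x : Y.D.obj (op ⟨1⟩)), rg Y.D (p2 (n := a.n) 0 i) (r • x) =
        rg A (p2 (n := a.n) 0 i) r • rg Y.D (p2 (n := a.n) 0 i) x := fun r x => (dPM Y).map_smul (p2 (n := a.n) 0 i) r x
    have key := bi_ext (Y := Y) hM (p2 (n := a.n) 0 i) (ψ := p1 (n := 1) 0) F G
      (fun r x y => by
        change Φ a (rg Y.D _ (r • x)) (M.map _ y) = _ • Φ a (rg Y.D _ x) (M.map _ y)
        rw [hr, map_smul, LinearMap.smul_apply])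
      (fun r x y => by
        change Φ a (rg Y.D _ x) (M.map _ (r • y)) = _ • Φ a (rg Y.D _ x) (M.map _ y)
        rw [M.map_smul, map_smul])
      (fun r x y => by
        change M.map _ (a1 (r • x) y) = _ • M.map _ (a1 x y)
        rw [map_smul, LinearMap.smul_apply, M.map_smul])
      (fun r x y => by
        change M.map _ (a1 x (r • y)) = _ • M.map _ (a1 x y)
        rw [map_smul, M.map_smul])
      (fun x y => by
        change Φ a (rg Y.D (p2 (n := a.n) 0 i) (rg Y.D (p1 (n := 1) 0) x))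
          (M.map (p2 (n := a.n) 0 i) (M.map (p1 (n := 1) 0) y)) =
          M.map (p2 (n := a.n) 0 i) (a1 (rg Y.D (p1 (n := 1) 0) x) (M.map (p1 (n := 1) 0) y))
        rw [h0, ← rg_comp_apply, ← M.map_comp, ← M.map_comp, p2_p1_zero, hΦ])
      (rg Y.D (p1 (n := 1) 1) d) (M.map (p1 (n := 1) 1) m)
    change Φ a (rg Y.D (p2 (n := a.n) 0 i) (rg Y.D (p1 (n := 1) 1) d))
      (M.map (p2 (n := a.n) 0 i) (M.map (p1 (n := 1) 1) m)) =
      M.map (p2 (n := a.n) 0 i) (a1 (rg Y.D (p1 (n := 1) 1) d) (M.map (p1 (n := 1) 1) m)) at key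
    rwa [h1, ← rg_comp_apply, ← M.map_comp, ← M.map_comp, p2_p1_one] at key
  have hid : ∀ d m, Φ ⟨0⟩ d m = d • m := fun d m => by
    have := hΦ ⟨0⟩ d m
    change Φ ⟨0⟩ (rg Y.D (p1 (n := 0) 0) d) (M.map (p1 (n := 0) 0) m) = M.map (p1 (n := 0) 0) (d • m) at this
    rw [p1_id, M.map_id, M.map_id, rg_id] at this
    exact this
  -- unit
  have hone : ∀ (a : NF) (m : M.obj a), Φ a 1 m = m := fun a m => by
    have e : Φ a 1 = LinearMap.id := (hM (p1 (n := a.n) 0)).hom_ext fun x => by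
      have := hΦ a 1 x
      rw [map_one, one_smul] at this
      exact this
    rw [e]
    rfl
  -- multiplicativity
  have hmul : ∀ (a : NF) (d d' : Y.D.obj (op a)) (m : M.obj a), Φ a (d * d') m = Φ a d (Φ a d' m) := by
    intro a d d' m
    have key : ∀ (d0 : Y.D.obj (op ⟨0⟩)) (d' : Y.D.obj (op a)) (m : M.obj a),
        Φ a (rg Y.D (p1 (n := a.n) 0) d0 * d') m = Φ a (rg Y.D (p1 (n := a.n) 0) d0) (Φ a d' m) := by
      intro d0 d' m
      induction d' using (bcD Y (p1 (n := a.n) 0)).induction with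
      | zero =>
        change Φ a (_ * (0 : Y.D.obj (op a))) m = Φ a _ (Φ a (0 : Y.D.obj (op a)) m)
        rw [mul_zero, map_zero, LinearMap.zero_apply, map_zero]
      | map d1 =>
        change Φ a (_ * rg Y.D (p1 (n := a.n) 0) d1) m = Φ a _ (Φ a (rg Y.D (p1 (n := a.n) 0) d1) m)
        induction m using (hM (p1 (n := a.n) 0)).induction with
        | zero => rw [map_zero, map_zero, map_zero]
        | map m0 => rw [← map_mul, hΦ, hΦ, hΦ, smul_smul]
        | smul r m hm => rw [map_smul, hm, map_smul, map_smul]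
        | add x y hx hy => rw [map_add, hx, hy, map_add, map_add]
      | smul r x hx =>
        have e : rg Y.D (p1 (n := a.n) 0) d0 * (r • (x : Y.D.obj (op a))) =
            r • (rg Y.D (p1 (n := a.n) 0) d0 * x) := by rw [mul_smul_comm]
        change Φ a (_ * (r • (x : Y.D.obj (op a)))) m = Φ a _ (Φ a (r • (x : Y.D.obj (op a))) m)
        rw [e, map_smul, LinearMap.smul_apply, hx, map_smul, LinearMap.smul_apply, map_smul]
      | add x y hx hy =>
        change Φ a (_ * ((x : Y.D.obj (op a)) + y)) m = Φ a _ (Φ a ((x : Y.D.obj (op a)) + y) m)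
        rw [mul_add, map_add, LinearMap.add_apply, hx, hy, map_add, LinearMap.add_apply, map_add]
    induction d using (bcD Y (p1 (n := a.n) 0)).induction with
    | zero =>
      change Φ a ((0 : Y.D.obj (op a)) * d') m = Φ a (0 : Y.D.obj (op a)) (Φ a d' m)
      rw [zero_mul, map_zero, LinearMap.zero_apply, LinearMap.zero_apply]
    | map d1 => exact key d1 d' m
    | smul r x hx =>
      change Φ a ((r • (x : Y.D.obj (op a))) * d') m = Φ a (r • (x : Y.D.obj (op a))) (Φ a d' m)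
      rw [smul_mul_assoc, map_smul, LinearMap.smul_apply, hx, map_smul, LinearMap.smul_apply]
    | add x y hx hy =>
      change Φ a (((x : Y.D.obj (op a)) + y) * d') m = Φ a ((x : Y.D.obj (op a)) + y) (Φ a d' m)
      rw [add_mul, map_add, LinearMap.add_apply, hx, hy, map_add, LinearMap.add_apply]
  refine ⟨⟨Φ, fun a b φ d m => ?_, hone, hmul⟩, hid⟩
  let F : Y.D.obj (op b) →+ (M.obj b →+ M.obj a) := AddMonoidHom.mk' (fun x => AddMonoidHom.mk' (fun y =>
    M.map φ (Φ b x y)) (fun y y' => by rw [map_add, map_add]))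
    (fun x x' => AddMonoidHom.ext fun y => by
      change M.map _ (Φ b (x + x') y) = M.map _ (Φ b x y) + M.map _ (Φ b x' y)
      rw [map_add, LinearMap.add_apply, map_add])
  let G : Y.D.obj (op b) →+ (M.obj b →+ M.obj a) := AddMonoidHom.mk' (fun x => AddMonoidHom.mk' (fun y =>
    Φ a (rg Y.D φ x) (M.map φ y)) (fun y y' => by rw [map_add, map_add]))
    (fun x x' => AddMonoidHom.ext fun y => by
      change Φ a (rg Y.D _ (x + x')) (M.map _ y) = Φ a (rg Y.D _ x) (M.map _ y) + Φ a (rg Y.D _ x') (M.map _ y)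
      rw [map_add, map_add, LinearMap.add_apply])
  have hr : ∀ (r : A.obj (op b)) (x : Y.D.obj (op b)), rg Y.D φ (r • x) = rg A φ r • rg Y.D φ x :=
    fun r x => (dPM Y).map_smul φ r x
  exact bi_ext (Y := Y) hM φ (ψ := p1 (n := b.n) 0) F G
    (fun r x y => by
      change M.map _ (Φ b (r • x) y) = _ • M.map _ (Φ b x y)
      rw [map_smul, LinearMap.smul_apply, M.map_smul])
    (fun r x y => by
      change M.map _ (Φ b x (r • y)) = _ • M.map _ (Φ b x y)
      rw [map_smul, M.map_smul])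
    (fun r x y => by
      change Φ a (rg Y.D _ (r • x)) (M.map _ y) = _ • Φ a (rg Y.D _ x) (M.map _ y)
      rw [hr, map_smul, LinearMap.smul_apply])
    (fun r x y => by
      change Φ a (rg Y.D _ x) (M.map _ (r • y)) = _ • Φ a (rg Y.D _ x) (M.map _ y)
      rw [M.map_smul, map_smul])
    (fun x y => by
      change M.map φ (Φ b (rg Y.D (p1 (n := b.n) 0) x) (M.map (p1 (n := b.n) 0) y)) =
        Φ a (rg Y.D φ (rg Y.D (p1 (n := b.n) 0) x)) (M.map φ (M.map (p1 (n := b.n) 0) y))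
      rw [hΦ, ← rg_comp_apply, ← M.map_comp, ← M.map_comp, comp_p1, hv]) d m

end Groth.Agent.ResProp.EF.K686

end
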