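import Groth.Agent.ResProp.EF.K686.SObj
import Groth.Agent.ResProp.EF.K328.BCTens
import Mathlib.CategoryTheory.Monad.Algebra
import Mathlib.CategoryTheory.Preadditive.AdditiveFunctor

/-!
# The comonad `- ⊗ O` on `Comod A`
-/

set_option autoImplicit false
set_option linter.style.haveILetI false
set_option linter.dupNamespace false

open CategoryTheory Opposite TensorProduct

noncomputable section

namespace Groth.Agent.ResProp.EF.K686

open K784.BC K784.PM EF56 K985 Arch Grp

universe w' w u

variable {k : Type u} [CommRing k] {A : NFᵒᵖ ⥤ CommRingCat.{u}} [GRF k A]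

theorem tenPM_cart (M : PM.{u} A) (hM : M.Cart) (W : Type u) [AddCommGroup W] [Module k W] :
    (tenPM (k := k) M W).Cart := fun _ _ φ =>
  K328.isBC_rTensor (rg A φ) (fun r => GRF.map_k φ r) (mapk (k := k) M φ) (hM φ) W

/-- a natural family of maps is a morphism of presheaves of modules -/
def homOf {M M' : EF56.Comod A} (q : ∀ a : NF, (toPM M.obj).obj a →ₗ[A.obj (op a)] (toPM M'.obj).obj a)
    (hq : ∀ ⦃a b : NF⦄ (φ : a ⟶ b) (e : (toPM M.obj).obj b),
      q a ((toPM M.obj).map φ e) = (toPM M'.obj).map φ (q b e)) : M ⟶ M' :=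
  ObjectProperty.homMk
    { app := fun X => ModuleCat.ofHom (q X.unop)
      naturality := fun {X Y} φ => by
        ext m
        exact hq φ.unop m }

/-- the family of a morphism -/
def famOf {M M' : EF56.Comod A} (f : M ⟶ M') (a : NF) :
    (toPM M.obj).obj a →ₗ[A.obj (op a)] (toPM M'.obj).obj a := (f.hom.app (op a)).hom

theorem famOf_nat {M M' : EF56.Comod A} (f : M ⟶ M') ⦃a b : NF⦄ (φ : a ⟶ b) (e : (toPM M.obj).obj b) :
    famOf f a ((toPM M.obj).map φ e) = (toPM M'.obj).map φ (famOf f b e) :=
  PresheafOfModules.naturality_apply f.hom φ.op e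

theorem hom_ext_fam {M M' : EF56.Comod A} {f g : M ⟶ M'} (h : ∀ a x, famOf f a x = famOf g a x) : f = g := by
  ext X m
  exact h X.unop m

theorem famOf_homOf {M M' : EF56.Comod A} (q : ∀ a : NF, (toPM M.obj).obj a →ₗ[A.obj (op a)] (toPM M'.obj).obj a)
    (hq : ∀ ⦃a b : NF⦄ (φ : a ⟶ b) (e : (toPM M.obj).obj b),
      q a ((toPM M.obj).map φ e) = (toPM M'.obj).map φ (q b e)) (a : NF) : famOf (homOf q hq) a = q a := rfl

@[simp]
theorem famOf_id (M : EF56.Comod A) (a : NF) : famOf (𝟙 M) a = LinearMap.id := rfl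

@[simp]
theorem famOf_comp {M M' M'' : EF56.Comod A} (f : M ⟶ M') (g : M' ⟶ M'') (a : NF) :
    famOf (f ≫ g) a = (famOf g a).comp (famOf f a) := rfl

section Ten

variable (W : Type u) [AddCommGroup W] [Module k W]

/-- `f ⊗ W` is `A⟨a⟩`-linear. -/
def rT {M M' : PM.{u} A} {a : NF} (f : M.obj a →ₗ[A.obj (op a)] M'.obj a) :
    (M.obj a ⊗[k] W) →ₗ[A.obj (op a)] (M'.obj a ⊗[k] W) :=
  { (f.restrictScalars k).rTensor W with
    map_smul' := fun r t => by
      change (f.restrictScalars k).rTensor W (r • t) = r • (f.restrictScalars k).rTensor W t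
      induction t using TensorProduct.induction_on with
      | zero => rw [smul_zero, map_zero, smul_zero]
      | tmul m w =>
        rw [TensorProduct.smul_tmul', LinearMap.rTensor_tmul, LinearMap.rTensor_tmul, TensorProduct.smul_tmul']
        exact congrArg (fun y => y ⊗ₜ[k] w) (f.map_smul r m)
      | add s t hs ht => rw [smul_add, map_add, hs, ht, map_add, smul_add] }

theorem rT_tmul {M M' : PM.{u} A} {a : NF} (f : M.obj a →ₗ[A.obj (op a)] M'.obj a) (m : M.obj a) (w : W) :
    rT (k := k) W f (m ⊗ₜ w) = f m ⊗ₜ w := rfl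

/-- `M ⊗ g` is `A⟨a⟩`-linear. -/
def lT (M : PM.{u} A) (a : NF) {W W' : Type u} [AddCommGroup W] [Module k W] [AddCommGroup W'] [Module k W']
    (g : W →ₗ[k] W') : (M.obj a ⊗[k] W) →ₗ[A.obj (op a)] (M.obj a ⊗[k] W') :=
  { g.lTensor (M.obj a) with
    map_smul' := fun r t => by
      change g.lTensor (M.obj a) (r • t) = r • g.lTensor (M.obj a) t
      induction t using TensorProduct.induction_on with
      | zero => rw [smul_zero, map_zero, smul_zero]
      | tmul m w => rfl
      | add s t hs ht => rw [smul_add, map_add, hs, ht, map_add, smul_add] }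

theorem lT_tmul (M : PM.{u} A) (a : NF) {W W' : Type u} [AddCommGroup W] [Module k W] [AddCommGroup W'] [Module k W']
    (g : W →ₗ[k] W') (m : M.obj a) (w : W) : lT M a g (m ⊗ₜ[k] w) = m ⊗ₜ[k] g w := rfl

variable (A) in
/-- `- ⊗ W` on `Comod A`. -/
def tenF : EF56.Comod A ⥤ EF56.Comod A where
  obj M := ⟨ofPM (tenPM (k := k) (toPM M.obj) W), toPM_ofPM_cart (tenPM_cart (toPM M.obj) M.property W)⟩
  map {M M'} f := homOf (M := ⟨ofPM (tenPM (k := k) (toPM M.obj) W), toPM_ofPM_cart (tenPM_cart (toPM M.obj) M.property W)⟩)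
    (M' := ⟨ofPM (tenPM (k := k) (toPM M'.obj) W), toPM_ofPM_cart (tenPM_cart (toPM M'.obj) M'.property W)⟩)
    (fun a => rT (k := k) W (famOf f a)) (fun a b φ e => by
      change rT (k := k) W (famOf f a) ((mapk (k := k) (toPM M.obj) φ).rTensor W e) =
        (mapk (k := k) (toPM M'.obj) φ).rTensor W (rT (k := k) W (famOf f b) e)
      induction e using TensorProduct.induction_on with
      | zero => simp only [map_zero]
      | tmul m w =>
        rw [LinearMap.rTensor_tmul, rT_tmul, rT_tmul, LinearMap.rTensor_tmul]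
        exact congrArg (fun y => y ⊗ₜ[k] w) (famOf_nat f φ m)
      | add s t hs ht => simp only [map_add, hs, ht])
  map_id M := hom_ext_fam fun a x => by
    change rT (k := k) W (famOf (𝟙 M) a) x = x
    induction x using TensorProduct.induction_on with
    | zero => rw [map_zero]
    | tmul m w => rfl
    | add s t hs ht => rw [map_add, hs, ht]
  map_comp {M M' M''} f g := hom_ext_fam fun a x => by
    change rT (k := k) W (famOf (f ≫ g) a) x = rT (k := k) W (famOf g a) (rT (k := k) W (famOf f a) x)
    induction x using TensorProduct.induction_on with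
    | zero => simp only [map_zero]
    | tmul m w => rfl
    | add s t hs ht => simp only [map_add, hs, ht]

theorem famOf_tenF {M M' : EF56.Comod A} (f : M ⟶ M') (a : NF) :
    famOf ((tenF (k := k) A W).map f) a = rT (k := k) W (famOf f a) := rfl

instance : (tenF (k := k) A W).Additive where
  map_add {M M' f g} := hom_ext_fam fun a x => by
    change rT (k := k) W (famOf (f + g) a) x = rT (k := k) W (famOf f a) x + rT (k := k) W (famOf g a) x
    induction x using TensorProduct.induction_on with
    | zero => simp only [map_zero, add_zero]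
    | tmul m w => exact TensorProduct.add_tmul _ _ _
    | add s t hs ht =>
      simp only [map_add, hs, ht]
      abel

end Ten

section Maps

variable (O : Type u) [CommRing O] [Bialgebra k O] (M : PM.{u} A) (a : NF)

/-- the counit map -/
def epsL : (M.obj a ⊗[k] O) →ₗ[A.obj (op a)] M.obj a :=
  { (TensorProduct.rid k (M.obj a)).toLinearMap ∘ₗ (Coalgebra.counit (R := k) (A := O)).lTensor (M.obj a) with
    map_smul' := fun r t => by
      change (TensorProduct.rid k (M.obj a)) ((Coalgebra.counit (R := k) (A := O)).lTensor (M.obj a) (r • t)) =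
        r • (TensorProduct.rid k (M.obj a)) ((Coalgebra.counit (R := k) (A := O)).lTensor (M.obj a) t)
      induction t using TensorProduct.induction_on with
      | zero => rw [smul_zero, map_zero, map_zero, smul_zero]
      | tmul m w =>
        rw [TensorProduct.smul_tmul', LinearMap.lTensor_tmul, LinearMap.lTensor_tmul, TensorProduct.rid_tmul,
          TensorProduct.rid_tmul, smul_comm]
      | add s t hs ht => rw [smul_add, map_add, map_add, hs, ht, map_add, map_add, smul_add] }

theorem epsL_tmul (m : M.obj a) (x : O) : epsL (k := k) O M a (m ⊗ₜ x) = Coalgebra.counit (R := k) x • m := by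
  change (TensorProduct.rid k (M.obj a)) ((Coalgebra.counit (R := k) (A := O)).lTensor (M.obj a) (m ⊗ₜ[k] x)) = _
  rw [LinearMap.lTensor_tmul, TensorProduct.rid_tmul]

/-- reassociation -/
def ascL : (M.obj a ⊗[k] (O ⊗[k] O)) →ₗ[A.obj (op a)] ((M.obj a ⊗[k] O) ⊗[k] O) :=
  { (TensorProduct.assoc k (M.obj a) O O).symm.toLinearMap with
    map_smul' := fun r s => by
      change (TensorProduct.assoc k (M.obj a) O O).symm (r • s) = r • (TensorProduct.assoc k (M.obj a) O O).symm s
      induction s using TensorProduct.induction_on with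
      | zero => rw [smul_zero, map_zero, smul_zero]
      | tmul m y =>
        induction y using TensorProduct.induction_on with
        | zero => rw [TensorProduct.tmul_zero, smul_zero, map_zero, smul_zero]
        | tmul y z => rfl
        | add y z hy hz => rw [TensorProduct.tmul_add, smul_add, map_add, hy, hz, map_add, smul_add]
      | add s t hs ht => rw [smul_add, map_add, hs, ht, map_add, smul_add] }

theorem ascL_tmul (m : M.obj a) (x y : O) : ascL (k := k) O M a (m ⊗ₜ (x ⊗ₜ y)) = (m ⊗ₜ x) ⊗ₜ y := rfl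

/-- the comultiplication map -/
def delL : (M.obj a ⊗[k] O) →ₗ[A.obj (op a)] ((M.obj a ⊗[k] O) ⊗[k] O) :=
  (ascL (k := k) O M a).comp (lT M a (Coalgebra.comul (R := k) (A := O)))

theorem delL_tmul (m : M.obj a) (x : O) : delL (k := k) O M a (m ⊗ₜ x) =
    ascL (k := k) O M a (m ⊗ₜ Coalgebra.comul (R := k) x) := rfl

end Maps

/-- induction on the second factor -/
theorem tens_ind {N W : Type u} [AddCommGroup N] [Module k N] [AddCommGroup W] [Module k W] {Q : Type w} [AddCommGroup Q]
    (F G : (N ⊗[k] W) →+ Q) (h : ∀ n w, F (n ⊗ₜ w) = G (n ⊗ₜ w)) (x : N ⊗[k] W) : F x = G x := by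
  induction x using TensorProduct.induction_on with
  | zero => rw [map_zero, map_zero]
  | tmul m w => exact h m w
  | add s t hs ht => rw [map_add, map_add, hs, ht]

variable (O : Type u) [CommRing O] [Bialgebra k O]

theorem epsL_nat (M : PM.{u} A) ⦃a b : NF⦄ (φ : a ⟶ b) (e : M.obj b ⊗[k] O) :
    epsL (k := k) O M a ((mapk (k := k) M φ).rTensor O e) = M.map φ (epsL (k := k) O M b e) := by
  refine tens_ind ((epsL (k := k) O M a).toAddMonoidHom.comp ((mapk (k := k) M φ).rTensor O).toAddMonoidHom)
    ((M.map φ).comp (epsL (k := k) O M b).toAddMonoidHom) (fun m x => ?_) e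
  change epsL (k := k) O M a ((mapk (k := k) M φ).rTensor O (m ⊗ₜ x)) = M.map φ (epsL (k := k) O M b (m ⊗ₜ x))
  rw [LinearMap.rTensor_tmul, epsL_tmul, epsL_tmul]
  exact ((mapk (k := k) M φ).map_smul _ m).symm

theorem delL_nat (M : PM.{u} A) ⦃a b : NF⦄ (φ : a ⟶ b) (e : M.obj b ⊗[k] O) :
    delL (k := k) O M a ((mapk (k := k) M φ).rTensor O e) =
      ((mapk (k := k) M φ).rTensor O).rTensor O (delL (k := k) O M b e) := by
  refine tens_ind ((delL (k := k) O M a).toAddMonoidHom.comp ((mapk (k := k) M φ).rTensor O).toAddMonoidHom)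
    ((((mapk (k := k) M φ).rTensor O).rTensor O).toAddMonoidHom.comp (delL (k := k) O M b).toAddMonoidHom)
    (fun m x => ?_) e
  change delL (k := k) O M a ((mapk (k := k) M φ).rTensor O (m ⊗ₜ x)) =
    ((mapk (k := k) M φ).rTensor O).rTensor O (delL (k := k) O M b (m ⊗ₜ x))
  rw [LinearMap.rTensor_tmul, delL_tmul, delL_tmul]
  generalize (Coalgebra.comul (R := k) (A := O)) x = y
  induction y using TensorProduct.induction_on with
  | zero => simp only [TensorProduct.tmul_zero, map_zero]
  | tmul y z => rfl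
  | add y z hy hz => simp only [TensorProduct.tmul_add, map_add, hy, hz]

theorem epsL_rT {M M' : PM.{u} A} {a : NF} (f : M.obj a →ₗ[A.obj (op a)] M'.obj a) (x : M.obj a ⊗[k] O) :
    epsL (k := k) O M' a (rT (k := k) O f x) = f (epsL (k := k) O M a x) := by
  refine tens_ind ((epsL (k := k) O M' a).toAddMonoidHom.comp (rT (k := k) O f).toAddMonoidHom)
    (f.toAddMonoidHom.comp (epsL (k := k) O M a).toAddMonoidHom) (fun m x => ?_) x
  change epsL (k := k) O M' a (rT (k := k) O f (m ⊗ₜ x)) = f (epsL (k := k) O M a (m ⊗ₜ x))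
  rw [rT_tmul, epsL_tmul, epsL_tmul]
  exact ((f.restrictScalars k).map_smul _ m).symm

theorem delL_rT {M M' : PM.{u} A} {a : NF} (f : M.obj a →ₗ[A.obj (op a)] M'.obj a) (x : M.obj a ⊗[k] O) :
    delL (k := k) O M' a (rT (k := k) O f x) =
      rT (M := tenPM (k := k) M O) (M' := tenPM (k := k) M' O) (k := k) O (rT (k := k) O f) (delL (k := k) O M a x) := by
  refine tens_ind ((delL (k := k) O M' a).toAddMonoidHom.comp (rT (k := k) O f).toAddMonoidHom)
    ((rT (M := tenPM (k := k) M O) (M' := tenPM (k := k) M' O) (k := k) O (rT (k := k) O f)).toAddMonoidHom.comp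
      (delL (k := k) O M a).toAddMonoidHom) (fun m x => ?_) x
  change delL (k := k) O M' a (rT (k := k) O f (m ⊗ₜ x)) =
      rT (M := tenPM (k := k) M O) (M' := tenPM (k := k) M' O) (k := k) O (rT (k := k) O f)
        (delL (k := k) O M a (m ⊗ₜ x))
  rw [rT_tmul, delL_tmul, delL_tmul]
  generalize (Coalgebra.comul (R := k) (A := O)) x = y
  induction y using TensorProduct.induction_on with
  | zero =>
    simp only [TensorProduct.tmul_zero, map_zero]
    exact (map_zero (rT (M := tenPM (k := k) M O) (M' := tenPM (k := k) M' O) (k := k) O (rT (k := k) O f))).symm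
  | tmul y z => rfl
  | add y z hy hz =>
    simp only [TensorProduct.tmul_add, map_add, hy, hz]
    exact (map_add (rT (M := tenPM (k := k) M O) (M' := tenPM (k := k) M' O) (k := k) O (rT (k := k) O f)) _ _).symm

section Laws

variable (M : PM.{u} A) (a : NF) (m : M.obj a)

theorem left_aux (y : O ⊗[k] O) : epsL (k := k) O (tenPM (k := k) M O) a (ascL (k := k) O M a (m ⊗ₜ y)) =
    m ⊗ₜ[k] TensorProduct.rid k O ((Coalgebra.counit (R := k) (A := O)).lTensor O y) := by
  induction y using TensorProduct.induction_on with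
  | zero =>
    simp only [TensorProduct.tmul_zero, map_zero]
    exact map_zero (epsL (k := k) O (tenPM (k := k) M O) a)
  | tmul y z =>
    rw [ascL_tmul, LinearMap.lTensor_tmul, TensorProduct.rid_tmul, TensorProduct.tmul_smul]
    exact epsL_tmul O (tenPM (k := k) M O) a (m ⊗ₜ y) z
  | add y z hy hz =>
    simp only [TensorProduct.tmul_add, map_add]
    rw [← hy, ← hz]
    exact map_add (epsL (k := k) O (tenPM (k := k) M O) a) _ _

theorem right_aux (y : O ⊗[k] O) : rT (M := tenPM (k := k) M O) (M' := M) (k := k) O (epsL (k := k) O M a)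
    (ascL (k := k) O M a (m ⊗ₜ y)) =
    m ⊗ₜ[k] TensorProduct.lid k O ((Coalgebra.counit (R := k) (A := O)).rTensor O y) := by
  induction y using TensorProduct.induction_on with
  | zero =>
    simp only [TensorProduct.tmul_zero, map_zero]
    exact map_zero (rT (M := tenPM (k := k) M O) (M' := M) (k := k) O (epsL (k := k) O M a))
  | tmul y z =>
    rw [ascL_tmul, LinearMap.rTensor_tmul, TensorProduct.lid_tmul]
    exact (congrArg (fun t => t ⊗ₜ[k] z) (epsL_tmul O M a m y)).trans (TensorProduct.smul_tmul _ _ _)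
  | add y z hy hz =>
    simp only [TensorProduct.tmul_add, map_add]
    rw [← hy, ← hz]
    exact map_add (rT (M := tenPM (k := k) M O) (M' := M) (k := k) O (epsL (k := k) O M a)) _ _

/-- three factors -/
def psi3 : (O ⊗[k] (O ⊗[k] O)) →+ (((M.obj a ⊗[k] O) ⊗[k] O) ⊗[k] O) :=
  ((TensorProduct.assoc k (M.obj a ⊗[k] O) O O).symm.toLinearMap ∘ₗ
    (TensorProduct.assoc k (M.obj a) O (O ⊗[k] O)).symm.toLinearMap ∘ₗ
      TensorProduct.mk k (M.obj a) (O ⊗[k] (O ⊗[k] O)) m).toAddMonoidHom

theorem psi3_tmul (x y z : O) : psi3 (k := k) O M a m (x ⊗ₜ (y ⊗ₜ z)) = ((m ⊗ₜ x) ⊗ₜ y) ⊗ₜ z := rfl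

theorem co_aux1 (y : O ⊗[k] O) : rT (M := tenPM (k := k) M O) (M' := tenPM (k := k) (tenPM (k := k) M O) O) (k := k) O
    (delL (k := k) O M a) (ascL (k := k) O M a (m ⊗ₜ y)) =
    psi3 (k := k) O M a m (TensorProduct.assoc k O O O ((Coalgebra.comul (R := k) (A := O)).rTensor O y)) := by
  induction y using TensorProduct.induction_on with
  | zero =>
    simp only [TensorProduct.tmul_zero, map_zero]
    exact map_zero (rT (M := tenPM (k := k) M O) (M' := tenPM (k := k) (tenPM (k := k) M O) O) (k := k) O
      (delL (k := k) O M a))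
  | tmul y z =>
    rw [ascL_tmul, LinearMap.rTensor_tmul]
    have e : rT (M := tenPM (k := k) M O) (M' := tenPM (k := k) (tenPM (k := k) M O) O) (k := k) O
      (delL (k := k) O M a) ((m ⊗ₜ y) ⊗ₜ z) = (ascL (k := k) O M a (m ⊗ₜ Coalgebra.comul (R := k) y)) ⊗ₜ[k] z := rfl
    refine e.trans ?_
    generalize (Coalgebra.comul (R := k) (A := O)) y = w
    induction w using TensorProduct.induction_on with
    | zero => simp only [TensorProduct.tmul_zero, TensorProduct.zero_tmul, map_zero]
    | tmul y z => rfl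
    | add y z hy hz => simp only [TensorProduct.tmul_add, TensorProduct.add_tmul, map_add, hy, hz]
  | add y z hy hz =>
    simp only [TensorProduct.tmul_add, map_add]
    rw [← hy, ← hz]
    exact map_add (rT (M := tenPM (k := k) M O) (M' := tenPM (k := k) (tenPM (k := k) M O) O) (k := k) O
      (delL (k := k) O M a)) _ _

theorem co_aux2 (y : O ⊗[k] O) : delL (k := k) O (tenPM (k := k) M O) a (ascL (k := k) O M a (m ⊗ₜ y)) =
    psi3 (k := k) O M a m ((Coalgebra.comul (R := k) (A := O)).lTensor O y) := by
  induction y using TensorProduct.induction_on with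
  | zero =>
    simp only [TensorProduct.tmul_zero, map_zero]
    exact map_zero (delL (k := k) O (tenPM (k := k) M O) a)
  | tmul y z =>
    rw [ascL_tmul, LinearMap.lTensor_tmul]
    have e : delL (k := k) O (tenPM (k := k) M O) a ((m ⊗ₜ y) ⊗ₜ z) =
      ascL (k := k) O (tenPM (k := k) M O) a ((m ⊗ₜ[k] y : M.obj a ⊗[k] O) ⊗ₜ[k] Coalgebra.comul (R := k) z) := rfl
    refine e.trans ?_
    generalize (Coalgebra.comul (R := k) (A := O)) z = w
    induction w using TensorProduct.induction_on with
    | zero =>
      simp only [TensorProduct.tmul_zero, map_zero]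
      rfl
    | tmul y z => rfl
    | add y z hy hz =>
      simp only [TensorProduct.tmul_add, map_add]
      rw [← hy, ← hz]
      rfl
  | add y z hy hz =>
    simp only [TensorProduct.tmul_add, map_add]
    rw [← hy, ← hz]
    exact map_add (delL (k := k) O (tenPM (k := k) M O) a) _ _

end Laws

variable (k A) in
/-- **the comonad `- ⊗ O`**. -/
def cmd : Comonad (EF56.Comod A) where
  toFunctor := tenF (k := k) A O
  ε :=
    { app := fun M => homOf (M := (tenF (k := k) A O).obj M) (M' := M)
        (fun a => epsL (k := k) O (toPM M.obj) a) (fun a b φ e => epsL_nat O (toPM M.obj) φ e)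
      naturality := fun M M' f => hom_ext_fam fun a x => epsL_rT O (famOf f a) x }
  δ :=
    { app := fun M => homOf (M := (tenF (k := k) A O).obj M) (M' := (tenF (k := k) A O).obj ((tenF (k := k) A O).obj M))
        (fun a => delL (k := k) O (toPM M.obj) a) (fun a b φ e => delL_nat O (toPM M.obj) φ e)
      naturality := fun M M' f => hom_ext_fam fun a x => delL_rT O (famOf f a) x }
  coassoc := fun M => hom_ext_fam fun a x => by
    change rT (M := tenPM (k := k) (toPM M.obj) O) (M' := tenPM (k := k) (tenPM (k := k) (toPM M.obj) O) O) (k := k) O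
      (delL (k := k) O (toPM M.obj) a) (delL (k := k) O (toPM M.obj) a x) =
      delL (k := k) O (tenPM (k := k) (toPM M.obj) O) a (delL (k := k) O (toPM M.obj) a x)
    refine tens_ind ((rT (M := tenPM (k := k) (toPM M.obj) O) (M' := tenPM (k := k) (tenPM (k := k) (toPM M.obj) O) O)
      (k := k) O (delL (k := k) O (toPM M.obj) a)).toAddMonoidHom.comp (delL (k := k) O (toPM M.obj) a).toAddMonoidHom)
      ((delL (k := k) O (tenPM (k := k) (toPM M.obj) O) a).toAddMonoidHom.comp
        (delL (k := k) O (toPM M.obj) a).toAddMonoidHom) (fun m w => ?_) x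
    have e1 := co_aux1 (k := k) O (toPM M.obj) a m (Coalgebra.comul (R := k) w)
    have e2 := co_aux2 (k := k) O (toPM M.obj) a m (Coalgebra.comul (R := k) w)
    rw [Coalgebra.coassoc_apply] at e1
    exact e1.trans e2.symm
  left_counit := fun M => hom_ext_fam fun a x => by
    change epsL (k := k) O (tenPM (k := k) (toPM M.obj) O) a (delL (k := k) O (toPM M.obj) a x) = x
    refine tens_ind ((epsL (k := k) O (tenPM (k := k) (toPM M.obj) O) a).toAddMonoidHom.comp
      (delL (k := k) O (toPM M.obj) a).toAddMonoidHom) (AddMonoidHom.id _) (fun m w => ?_) x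
    have e1 := left_aux (k := k) O (toPM M.obj) a m (Coalgebra.comul (R := k) w)
    rw [Coalgebra.lTensor_counit_comul, TensorProduct.rid_tmul, one_smul] at e1
    exact e1
  right_counit := fun M => hom_ext_fam fun a x => by
    change rT (M := tenPM (k := k) (toPM M.obj) O) (M' := toPM M.obj) (k := k) O (epsL (k := k) O (toPM M.obj) a)
      (delL (k := k) O (toPM M.obj) a x) = x
    refine tens_ind ((rT (M := tenPM (k := k) (toPM M.obj) O) (M' := toPM M.obj) (k := k) O
      (epsL (k := k) O (toPM M.obj) a)).toAddMonoidHom.comp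
      (delL (k := k) O (toPM M.obj) a).toAddMonoidHom) (AddMonoidHom.id _) (fun m w => ?_) x
    have e1 := right_aux (k := k) O (toPM M.obj) a m (Coalgebra.comul (R := k) w)
    rw [Coalgebra.rTensor_counit_comul, TensorProduct.lid_tmul, one_smul] at e1
    exact e1

end Groth.Agent.ResProp.EF.K686

end
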