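import Groth.Agent.ResProp.EF.K686.Bic
import Groth.Agent.ResProp.EF.K741.ComodAb
import Groth.Agent.ResProp.EF.K496.CobAbs
import Mathlib.CategoryTheory.Abelian.ShortExact
import Mathlib.RingTheory.Flat.Basic
import Mathlib.LinearAlgebra.TensorProduct.RightExactness
import Mathlib.LinearAlgebra.TensorProduct.Tower
import Mathlib.Algebra.Category.ModuleCat.Monoidal.Closed

/-!
# The functor `- ⊗ W` on `Comod A`: exactness, colimits; the unit of the comonad
-/

set_option autoImplicit false
set_option linter.style.haveILetI false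
set_option linter.dupNamespace false

open CategoryTheory CategoryTheory.Limits Opposite TensorProduct

noncomputable section

namespace Groth.Agent.ResProp.EF.K686

open K784.BC K784.PM EF56 K985 Arch Grp

universe w' w u

/-- short exact sequences of modules -/
theorem shortExact_modules {R : Type u} [Ring R] (S : ShortComplex (ModuleCat.{u} R)) :
    S.ShortExact ↔ Function.Injective S.f.hom ∧ Function.Exact S.f.hom S.g.hom ∧ Function.Surjective S.g.hom := by
  constructor
  · intro h
    exact ⟨(ModuleCat.mono_iff_injective _).1 h.mono_f, (ShortComplex.ShortExact.moduleCat_exact_iff_function_exact S).1 h.exact,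
      (ModuleCat.epi_iff_surjective _).1 h.epi_g⟩
  · rintro ⟨h1, h2, h3⟩
    haveI := (ModuleCat.mono_iff_injective S.f).2 h1
    haveI := (ModuleCat.epi_iff_surjective S.g).2 h3
    exact ⟨(ShortComplex.ShortExact.moduleCat_exact_iff_function_exact S).2 h2⟩

variable {k : Type u} [CommRing k] {A : NFᵒᵖ ⥤ CommRingCat.{u}} [GRF k A]

section Ex

variable [Fact (GR A)]

variable (W : Type u) [AddCommGroup W] [Module k W] [Module.Flat k W]

theorem shortExact_tenF (S : ShortComplex (EF56.Comod A)) (hS : S.ShortExact) :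
    (S.map (tenF (k := k) A W)).ShortExact := by
  refine CategoryTheory.ShortExact.reflects_shortExact_of_faithful (vst A) ?_
  have h := (shortExact_modules _).1 (hS.map_of_exact (vst A))
  obtain ⟨h1, h2, h3⟩ := h
  refine (shortExact_modules _).2 ⟨?_, ?_, ?_⟩
  · exact Module.Flat.rTensor_preserves_injective_linearMap (M := W) ((famOf S.f ⟨0⟩).restrictScalars k) h1
  · exact rTensor_exact W (f := (famOf S.f ⟨0⟩).restrictScalars k) (g := (famOf S.g ⟨0⟩).restrictScalars k) h2 h3
  · exact LinearMap.rTensor_surjective W (g := (famOf S.g ⟨0⟩).restrictScalars k) h3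

theorem exact_tenF : PreservesFiniteLimits (tenF (k := k) A W) ∧ PreservesFiniteColimits (tenF (k := k) A W) :=
  ((Functor.exact_tfae (tenF (k := k) A W)).out 0 3).1 (shortExact_tenF W)

instance : PreservesFiniteLimits (tenF (k := k) A W) := (exact_tenF W).1

end Ex

section Col

variable [Fact (GR A)]

variable (W : Type u) [AddCommGroup W] [Module k W]

/-- on the chart: `M ⊗_k W = M ⊗_R (R ⊗_k W)` -/
def vstTen : tenF (k := k) A W ⋙ vst A ≅
    vst A ⋙ MonoidalCategory.tensorRight (ModuleCat.of (A.obj (op ⟨0⟩)) ((A.obj (op ⟨0⟩)) ⊗[k] W)) :=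
  NatIso.ofComponents (fun M => LinearEquiv.toModuleIso
    (TensorProduct.AlgebraTensorModule.cancelBaseChange k (A.obj (op ⟨0⟩)) (A.obj (op ⟨0⟩)) ((toPM M.obj).obj ⟨0⟩) W).symm)
    (fun {M N} f => by
      ext x
      change (TensorProduct.AlgebraTensorModule.cancelBaseChange k (A.obj (op ⟨0⟩)) (A.obj (op ⟨0⟩))
          ((toPM N.obj).obj ⟨0⟩) W).symm (rT (k := k) W (famOf f ⟨0⟩) x) =
        (famOf f ⟨0⟩).rTensor ((A.obj (op ⟨0⟩)) ⊗[k] W)
          ((TensorProduct.AlgebraTensorModule.cancelBaseChange k (A.obj (op ⟨0⟩)) (A.obj (op ⟨0⟩))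
          ((toPM M.obj).obj ⟨0⟩) W).symm x)
      refine tens_ind (((TensorProduct.AlgebraTensorModule.cancelBaseChange k (A.obj (op ⟨0⟩)) (A.obj (op ⟨0⟩))
          ((toPM N.obj).obj ⟨0⟩) W).symm.toLinearMap.toAddMonoidHom).comp (rT (k := k) W (famOf f ⟨0⟩)).toAddMonoidHom)
        (((famOf f ⟨0⟩).rTensor ((A.obj (op ⟨0⟩)) ⊗[k] W)).toAddMonoidHom.comp
          (TensorProduct.AlgebraTensorModule.cancelBaseChange k (A.obj (op ⟨0⟩)) (A.obj (op ⟨0⟩))
          ((toPM M.obj).obj ⟨0⟩) W).symm.toLinearMap.toAddMonoidHom) (fun m w => rfl) x)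

instance : PreservesColimitsOfSize.{u, u} (tenF (k := k) A W) := by
  haveI : ReflectsColimitsOfSize.{u, u} (vst A) := reflectsColimits_of_reflectsIsomorphisms
  haveI : PreservesColimitsOfSize.{u, u} (tenF (k := k) A W ⋙ vst A) :=
    preservesColimits_of_natIso (vstTen W).symm
  exact preservesColimits_of_reflects_of_preserves _ (vst A)

end Col

section Cmd

variable (O : Type u) [CommRing O] [Bialgebra k O]

instance : (cmd k A O).toFunctor.Additive := inferInstanceAs (tenF (k := k) A O).Additive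

instance [Fact (GR A)] [Module.Flat k O] : PreservesFiniteLimits (cmd k A O).toFunctor :=
  inferInstanceAs (PreservesFiniteLimits (tenF (k := k) A O))

instance [Fact (GR A)] : PreservesColimitsOfSize.{u, u} (cmd k A O).toFunctor :=
  inferInstanceAs (PreservesColimitsOfSize.{u, u} (tenF (k := k) A O))

instance [Fact (GR A)] : PreservesFiniteColimits (cmd k A O).toFunctor :=
  PreservesColimits.preservesFiniteColimits _

end Cmd

section Unit

variable (O : Type u) [CommRing O] [Bialgebra k O]

/-- `m ↦ m ⊗ 1` -/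
def oneL (M : PM.{u} A) (a : NF) : M.obj a →ₗ[A.obj (op a)] (M.obj a ⊗[k] O) where
  toFun m := m ⊗ₜ 1
  map_add' _ _ := TensorProduct.add_tmul _ _ _
  map_smul' _ _ := rfl

theorem oneL_apply (M : PM.{u} A) (a : NF) (m : M.obj a) : oneL (k := k) O M a m = m ⊗ₜ[k] (1 : O) := rfl

variable (k A) in
/-- the unit of the comonad `- ⊗ O` -/
def cun : K496.CUnit (cmd k A O) where
  e M := homOf (M := M) (M' := (tenF (k := k) A O).obj M) (fun a => oneL (k := k) O (toPM M.obj) a) (fun a b φ e => rfl)
  nat f := hom_ext_fam fun a x => rfl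
  counit M := hom_ext_fam fun a x => by
    change epsL (k := k) O (toPM M.obj) a (x ⊗ₜ 1) = x
    rw [epsL_tmul, Bialgebra.counit_one, one_smul]
  comul M := hom_ext_fam fun a x => by
    change ascL (k := k) O (toPM M.obj) a (x ⊗ₜ Coalgebra.comul (R := k) (1 : O)) = (x ⊗ₜ 1) ⊗ₜ 1
    rw [Bialgebra.comul_one]
    rfl

end Unit

end Groth.Agent.ResProp.EF.K686

end
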