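import Groth.Agent.ResProp.EF.X56.NF
import Groth.Agent.StMod.K784.Semi

/-!
# Comodules over `(R, Γ) = (A⟨0⟩, A⟨1⟩)` are cartesian presheaves of modules on `NF`

`Com A` : an `A⟨0⟩`-module `M` with a coaction `ρ : M →+ A⟨1⟩ ⊗[s] M`, semilinear along `t`, counital and coassociative.
`Com.pm` : the cartesian presheaf of modules it defines; `Com.Hom.pm` : functoriality.
-/

set_option autoImplicit false
set_option linter.style.haveILetI false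
set_option linter.dupNamespace false

open CategoryTheory Opposite

namespace Groth.Agent.ResProp.EF.K686

open K784.BC K784.PM EF56

universe w' w u

/-- the arrow `⟨n⟩ ⟶ ⟨0⟩` with value `i`. -/
abbrev p1 {n : ℕ} (i : Fin (n + 1)) : (⟨n⟩ : NF) ⟶ ⟨0⟩ := (fun _ => i : Fin 1 → Fin (n + 1))

/-- the arrow `⟨n⟩ ⟶ ⟨1⟩` with values `i, j`. -/
abbrev p2 {n : ℕ} (i j : Fin (n + 1)) : (⟨n⟩ : NF) ⟶ ⟨1⟩ := (![i, j] : Fin 2 → Fin (n + 1))

/-- the arrow `⟨n⟩ ⟶ ⟨2⟩` with values `i, j, k`. -/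
abbrev p3 {n : ℕ} (i j k : Fin (n + 1)) : (⟨n⟩ : NF) ⟶ ⟨2⟩ := (![i, j, k] : Fin 3 → Fin (n + 1))

theorem p2_p1_zero {n : ℕ} (i j : Fin (n + 1)) : p2 i j ≫ p1 (n := 1) 0 = p1 i := by
  funext x
  rfl

theorem p2_p1_one {n : ℕ} (i j : Fin (n + 1)) : p2 i j ≫ p1 (n := 1) 1 = p1 j := by
  funext x
  rfl

theorem p3_p2_01 {n : ℕ} (i j k : Fin (n + 1)) : p3 i j k ≫ p2 (n := 2) 0 1 = p2 i j := by
  funext x
  fin_cases x <;> rfl

theorem p3_p2_12 {n : ℕ} (i j k : Fin (n + 1)) : p3 i j k ≫ p2 (n := 2) 1 2 = p2 j k := by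
  funext x
  fin_cases x <;> rfl

theorem p3_p2_02 {n : ℕ} (i j k : Fin (n + 1)) : p3 i j k ≫ p2 (n := 2) 0 2 = p2 i k := by
  funext x
  fin_cases x <;> rfl

theorem comp_p1 {a b : NF} (φ : a ⟶ b) (i : Fin (b.n + 1)) :
    φ ≫ p1 (n := b.n) i = p1 (n := a.n) ((show Fin (b.n + 1) → Fin (a.n + 1) from φ) i) := rfl

theorem comp_p2 {a b : NF} (φ : a ⟶ b) (i j : Fin (b.n + 1)) :
    φ ≫ p2 (n := b.n) i j = p2 (n := a.n) ((show Fin (b.n + 1) → Fin (a.n + 1) from φ) i)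
      ((show Fin (b.n + 1) → Fin (a.n + 1) from φ) j) := by
  funext x
  fin_cases x <;> rfl

theorem p1_id : p1 (n := 0) 0 = 𝟙 (⟨0⟩ : NF) := by
  funext x
  exact Subsingleton.elim (α := Fin 1) _ _

theorem p2_id : p2 (n := 1) 0 1 = 𝟙 (⟨1⟩ : NF) := by
  funext x
  change Fin 2 at x
  fin_cases x <;> rfl

variable (A : NFᵒᵖ ⥤ CommRingCat.{u})

/-- a comodule: an `A⟨0⟩`-module with a coaction of `A⟨1⟩`. -/
structure Com where
  M : Type w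
  [grp : AddCommGroup M]
  [mod : Module (A.obj (op ⟨0⟩)) M]
  ρ : M →+ Ten (rg A (p1 (n := 1) 0)) M
  semi : Semi (rg A (p1 (n := 1) 1)) ρ
  /-- counit -/
  counit : ∀ e : Ten (rg A (p1 (n := 1) 0)) M →+ M, Semi (rg A (p2 (n := 0) 0 0)) e →
    (∀ m, e (ten _ M m) = m) → ∀ m, e (ρ m) = m
  /-- coassociativity: for maps to the base change along `p1 0 : ⟨2⟩ ⟶ ⟨0⟩` -/
  coassoc : ∀ k01 k12 k02 : Ten (rg A (p1 (n := 1) 0)) M →+ Ten (rg A (p1 (n := 2) 0)) M,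
    Semi (rg A (p2 (n := 2) 0 1)) k01 → Semi (rg A (p2 (n := 2) 1 2)) k12 → Semi (rg A (p2 (n := 2) 0 2)) k02 →
    (∀ m, k01 (ten _ M m) = ten _ M m) → (∀ m, k02 (ten _ M m) = ten _ M m) → (∀ m, k12 (ten _ M m) = k01 (ρ m)) →
    ∀ m, k12 (ρ m) = k02 (ρ m)

attribute [instance] Com.grp Com.mod


variable {A}

theorem semi_comp {x y z : NF} {φ : x ⟶ y} {ψ : y ⟶ z} {P Q R : Type*} [AddCommGroup P] [AddCommGroup Q] [AddCommGroup R]
    [Module (A.obj (op z)) P] [Module (A.obj (op y)) Q] [Module (A.obj (op x)) R] {f : P →+ Q} {g : Q →+ R}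
    (hg : Semi (rg A φ) g) (hf : Semi (rg A ψ) f) : Semi (rg A (φ ≫ ψ)) (g.comp f) := by
  rw [rg_comp]
  exact hg.comp hf

theorem exists_ext {x y z : NF} (φ : x ⟶ y) {ψ : y ⟶ z} {χ : x ⟶ z} (e : φ ≫ ψ = χ) {P Q R : Type*} [AddCommGroup P]
    [AddCommGroup Q] [AddCommGroup R]
    [Module (A.obj (op z)) P] [Module (A.obj (op y)) Q] [Module (A.obj (op x)) R] {f : P →+ Q} (hf : IsBC (rg A ψ) f)
    {g : P →+ R} (hg : Semi (rg A χ) g) : ∃ h : Q →+ R, Semi (rg A φ) h ∧ ∀ m, h (f m) = g m := by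
  subst e
  exact hf.exists_semi (rg A φ) g (by rw [← rg_comp]; exact hg)

theorem bc_of {x y z : NF} (φ : x ⟶ y) {ψ : y ⟶ z} {χ : x ⟶ z} (e : φ ≫ ψ = χ) {P Q R : Type*} [AddCommGroup P]
    [AddCommGroup Q] [AddCommGroup R]
    [Module (A.obj (op z)) P] [Module (A.obj (op y)) Q] [Module (A.obj (op x)) R] {f : P →+ Q} (hf : IsBC (rg A ψ) f)
    {g : Q →+ R} (hg : Semi (rg A φ) g) (hfg : IsBC (rg A χ) (g.comp f)) : IsBC (rg A φ) g := by
  subst e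
  rw [rg_comp] at hfg
  exact hf.of_comp hg hfg

theorem bc_comp {x y z : NF} {φ : x ⟶ y} {ψ : y ⟶ z} {χ : x ⟶ z} (e : φ ≫ ψ = χ) {P Q R : Type*} [AddCommGroup P]
    [AddCommGroup Q] [AddCommGroup R]
    [Module (A.obj (op z)) P] [Module (A.obj (op y)) Q] [Module (A.obj (op x)) R] {f : P →+ Q} (hf : IsBC (rg A ψ) f)
    {g : Q →+ R} (hg : IsBC (rg A φ) g) : IsBC (rg A χ) (g.comp f) := by
  subst e
  rw [rg_comp]
  exact hf.comp hg

/-- two semilinear maps out of a base change agree if they agree on the source. -/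
theorem eq_of {x y z : NF} {φ : x ⟶ y} {ψ : y ⟶ z} {P Q R : Type*} [AddCommGroup P] [AddCommGroup Q] [AddCommGroup R]
    [Module (A.obj (op z)) P] [Module (A.obj (op y)) Q] [Module (A.obj (op x)) R] {f : P →+ Q} (hf : IsBC (rg A ψ) f)
    {g h : Q →+ R} (hg : Semi (rg A φ) g) (hh : Semi (rg A φ) h) (e : ∀ m, g (f m) = h (f m)) (q : Q) : g q = h q :=
  congr($(hf.semi_ext hg hh e) q)

theorem semi_cast {x y : NF} {φ ψ : x ⟶ y} (e : φ = ψ) {P Q : Type*} [AddCommGroup P] [AddCommGroup Q]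
    [Module (A.obj (op y)) P] [Module (A.obj (op x)) Q] {f : P →+ Q} (h : Semi (rg A φ) f) : Semi (rg A ψ) f := e ▸ h

theorem bc_cast {x y : NF} {φ ψ : x ⟶ y} (e : φ = ψ) {P Q : Type*} [AddCommGroup P] [AddCommGroup Q]
    [Module (A.obj (op y)) P] [Module (A.obj (op x)) Q] {f : P →+ Q} (h : IsBC (rg A φ) f) : IsBC (rg A ψ) f := e ▸ h

namespace Com

variable (N : Com.{w} A)

/-- the base change to `A⟨n⟩` along the vertex `0`. -/
abbrev T (n : ℕ) : Type (max u w) := Ten (rg A (p1 (n := n) 0)) N.M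

/-- the canonical map. -/
noncomputable abbrev τ (n : ℕ) : N.M →+ N.T n := ten (rg A (p1 (n := n) 0)) N.M

theorem bcτ (n : ℕ) : IsBC (rg A (p1 (n := n) 0)) (N.τ n) := isBC_ten _ _

theorem exists_counit : ∃ e : N.T 1 →+ N.M, Semi (rg A (p2 (n := 0) 0 0)) e ∧ (∀ m, e (N.τ 1 m) = m) ∧
    ∀ m, e (N.ρ m) = m := by
  obtain ⟨e, h1, h2⟩ := exists_ext (A := A) (p2 (n := 0) 0 0) ((p2_p1_zero 0 0).trans p1_id) (N.bcτ 1)
    (g := AddMonoidHom.id N.M) (fun a m => by rw [rg_id]; rfl)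
  exact ⟨e, h1, h2, N.counit e h1 h2⟩

theorem exists_k : ∃ k01 k12 k02 : N.T 1 →+ N.T 2, Semi (rg A (p2 (n := 2) 0 1)) k01 ∧ Semi (rg A (p2 (n := 2) 1 2)) k12 ∧
    Semi (rg A (p2 (n := 2) 0 2)) k02 ∧ (∀ m, k01 (N.τ 1 m) = N.τ 2 m) ∧ (∀ m, k02 (N.τ 1 m) = N.τ 2 m) ∧
    (∀ m, k12 (N.τ 1 m) = k01 (N.ρ m)) ∧ ∀ m, k12 (N.ρ m) = k02 (N.ρ m) := by
  obtain ⟨k01, h1, h1'⟩ := exists_ext (A := A) (p2 (n := 2) 0 1) (p2_p1_zero 0 1) (N.bcτ 1) (N.bcτ 2).semi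
  obtain ⟨k02, h2, h2'⟩ := exists_ext (A := A) (p2 (n := 2) 0 2) (p2_p1_zero 0 2) (N.bcτ 1) (N.bcτ 2).semi
  obtain ⟨k12, h3, h3'⟩ := exists_ext (A := A) (p2 (n := 2) 1 2) (p2_p1_zero 1 2) (N.bcτ 1)
    (semi_cast (p2_p1_one 0 1) (semi_comp h1 N.semi))
  exact ⟨k01, k12, k02, h1, h3, h2, h1', h2', h3', N.coassoc k01 k12 k02 h1 h3 h2 h1' h2' h3'⟩

/-- the coaction is a base change (its inverse comes from the inverse arrow). -/
theorem bcρ : IsBC (rg A (p1 (n := 1) 1)) N.ρ := by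
  obtain ⟨e, he, he1, he2⟩ := N.exists_counit
  obtain ⟨k01, k12, k02, h1, h3, h2, h1', h2', h3', h4⟩ := N.exists_k
  -- the inverse
  obtain ⟨t, ht, ht'⟩ := exists_ext (A := A) (p2 (n := 1) 1 0) (p2_p1_zero 1 0) (N.bcτ 1) N.semi
  -- evaluation on the triangle `0, 1, 0`
  obtain ⟨v, hv, hv'⟩ := exists_ext (A := A) (p3 (n := 1) 0 1 0) (ψ := p1 (n := 2) 0) (χ := p1 (n := 1) 0)
    (by funext x; rfl) (N.bcτ 2) (N.bcτ 1).semi
  have e1 : ∀ x, v (k02 x) = N.τ 1 (e x) := fun x => by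
    refine eq_of (φ := p2 (n := 1) 0 0) (N.bcτ 1) (g := v.comp k02) (h := (N.τ 1).comp e)
      (semi_cast (p3_p2_02 0 1 0) (semi_comp hv h2)) ?_ (fun m => ?_) x
    · refine semi_cast ?_ (semi_comp (N.bcτ 1).semi he)
      funext x
      fin_cases x <;> rfl
    · change v (k02 (N.τ 1 m)) = N.τ 1 (e (N.τ 1 m))
      rw [h2', hv', he1]
  have e2 : ∀ x, v (k12 x) = t x := fun x => by
    refine eq_of (φ := p2 (n := 1) 1 0) (N.bcτ 1) (g := v.comp k12) (h := t)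
      (semi_cast (p3_p2_12 0 1 0) (semi_comp hv h3)) ht (fun m => ?_) x
    change v (k12 (N.τ 1 m)) = t (N.τ 1 m)
    rw [h3', ht']
    have e3 : ∀ y, v (k01 y) = y := fun y => by
      refine eq_of (φ := 𝟙 (⟨1⟩ : NF)) (N.bcτ 1) (g := v.comp k01) (h := AddMonoidHom.id _)
        (semi_cast ((p3_p2_01 0 1 0).trans p2_id) (semi_comp hv h1)) (fun a m => by rw [rg_id]; rfl) (fun m => ?_) y
      change v (k01 (N.τ 1 m)) = N.τ 1 m
      rw [h1', hv']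
    exact e3 _
  have e4 : ∀ m, t (N.ρ m) = N.τ 1 m := fun m => by rw [← e2, h4, e1, he2]
  have e5 : ∀ x, t (t x) = x := fun x => by
    refine eq_of (φ := 𝟙 (⟨1⟩ : NF)) (N.bcτ 1) (g := t.comp t) (h := AddMonoidHom.id _)
      (semi_cast ?_ (semi_comp ht ht)) (fun a m => by rw [rg_id]; rfl) (fun m => ?_) x
    · funext x
      change Fin 2 at x
      fin_cases x <;> rfl
    · change t (t (N.τ 1 m)) = N.τ 1 m
      rw [ht', e4]
  have hinv : Function.Involutive (rg A (p2 (n := 1) 1 0)) := fun r => by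
    rw [← rg_comp_apply]
    have : p2 (n := 1) 1 0 ≫ p2 (n := 1) 1 0 = 𝟙 (⟨1⟩ : NF) := by
      funext x
      change Fin 2 at x
      fin_cases x <;> rfl
    rw [this, rg_id]
    rfl
  have h6 : IsBC (rg A (p2 (n := 1) 1 0)) t := isBC_of_bijective hinv.bijective ht (Function.Involutive.bijective e5)
  have h7 := bc_comp (p2_p1_zero 1 0) (N.bcτ 1) h6
  have h8 : t.comp (N.τ 1) = N.ρ := AddMonoidHom.ext ht'
  rwa [h8] at h7

/-- the map `N ⟶ A⟨n⟩ ⊗ N` at the vertex `i`. -/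
theorem exists_ι (n : ℕ) (i : Fin (n + 1)) : ∃ ι : N.M →+ N.T n, IsBC (rg A (p1 (n := n) i)) ι ∧
    ∃ k : N.T 1 →+ N.T n, Semi (rg A (p2 (n := n) 0 i)) k ∧ (∀ m, k (N.τ 1 m) = N.τ n m) ∧ ∀ m, k (N.ρ m) = ι m := by
  obtain ⟨k, hk, hk'⟩ := exists_ext (A := A) (p2 (n := n) 0 i) (p2_p1_zero 0 i) (N.bcτ 1) (N.bcτ n).semi
  have h1 : IsBC (rg A (p2 (n := n) 0 i)) k := by
    refine bc_of _ (p2_p1_zero 0 i) (N.bcτ 1) hk ?_
    have : k.comp (N.τ 1) = N.τ n := AddMonoidHom.ext hk'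
    rw [this]
    exact N.bcτ n
  exact ⟨k.comp N.ρ, bc_comp (p2_p1_one 0 i) N.bcρ h1, k, hk, hk', fun m => rfl⟩

/-- the vertex maps. -/
noncomputable def ι (n : ℕ) (i : Fin (n + 1)) : N.M →+ N.T n := (N.exists_ι n i).choose

theorem bcι (n : ℕ) (i : Fin (n + 1)) : IsBC (rg A (p1 (n := n) i)) (N.ι n i) := (N.exists_ι n i).choose_spec.1

theorem ι_spec (n : ℕ) (i : Fin (n + 1)) (k : N.T 1 →+ N.T n) (hk : Semi (rg A (p2 (n := n) 0 i)) k)
    (hk' : ∀ m, k (N.τ 1 m) = N.τ n m) (m : N.M) : N.ι n i m = k (N.ρ m) := by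
  obtain ⟨k', h1, h2, h3⟩ := (N.exists_ι n i).choose_spec.2
  rw [ι, ← h3]
  refine eq_of (N.bcτ 1) h1 hk (fun m => ?_) _
  rw [h2, hk']

theorem ι_zero (n : ℕ) (m : N.M) : N.ι n 0 m = N.τ n m := by
  obtain ⟨e, he, he1, he2⟩ := N.exists_counit
  have h0 : p1 (n := n) 0 ≫ p2 (n := 0) 0 0 = p2 (n := n) 0 0 := by
    funext x
    change Fin 2 at x
    fin_cases x <;> rfl
  rw [N.ι_spec n 0 ((N.τ n).comp e) (semi_cast h0 (semi_comp (N.bcτ n).semi he)) (fun m => by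
    rw [AddMonoidHom.comp_apply, he1]) m, AddMonoidHom.comp_apply, he2]

/-- the edge maps. -/
theorem exists_edge (n : ℕ) (i j : Fin (n + 1)) : ∃ k : N.T 1 →+ N.T n, Semi (rg A (p2 (n := n) i j)) k ∧
    (∀ m, k (N.τ 1 m) = N.ι n i m) ∧ ∀ m, k (N.ρ m) = N.ι n j m := by
  obtain ⟨k01, k12, k02, h1, h3, h2, h1', h2', h3', h4⟩ := N.exists_k
  obtain ⟨v, hv, hv'⟩ := exists_ext (A := A) (p3 (n := n) 0 i j) (ψ := p1 (n := 2) 0) (χ := p1 (n := n) 0)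
    (by funext x; rfl) (N.bcτ 2) (N.bcτ n).semi
  have e1 : ∀ m, N.ι n i m = v (k01 (N.ρ m)) := N.ι_spec n i (v.comp k01) (semi_cast (p3_p2_01 0 i j) (semi_comp hv h1))
    (fun m => by rw [AddMonoidHom.comp_apply, h1', hv'])
  have e2 : ∀ m, N.ι n j m = v (k02 (N.ρ m)) := N.ι_spec n j (v.comp k02) (semi_cast (p3_p2_02 0 i j) (semi_comp hv h2))
    (fun m => by rw [AddMonoidHom.comp_apply, h2', hv'])
  refine ⟨v.comp k12, semi_cast (p3_p2_12 0 i j) (semi_comp hv h3), fun m => ?_, fun m => ?_⟩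
  · rw [AddMonoidHom.comp_apply, h3', e1]
  · rw [AddMonoidHom.comp_apply, h4, e2]

theorem exists_map {a b : NF} (φ : a ⟶ b) : ∃ f : N.T b.n →+ N.T a.n, Semi (rg A φ) f ∧
    ∀ i m, f (N.ι b.n i m) = N.ι a.n ((show Fin (b.n + 1) → Fin (a.n + 1) from φ) i) m := by
  obtain ⟨f, h1, h2⟩ := exists_ext (A := A) φ (comp_p1 φ 0) (N.bcι b.n 0)
    (N.bcι a.n ((show Fin (b.n + 1) → Fin (a.n + 1) from φ) 0)).semi
  refine ⟨f, h1, fun i m => ?_⟩
  obtain ⟨k, hk, hk1, hk2⟩ := N.exists_edge b.n 0 i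
  obtain ⟨k', hk', hk1', hk2'⟩ := N.exists_edge a.n ((show Fin (b.n + 1) → Fin (a.n + 1) from φ) 0)
    ((show Fin (b.n + 1) → Fin (a.n + 1) from φ) i)
  rw [← hk2, ← hk2']
  refine eq_of (N.bcτ 1) (g := f.comp k) (h := k') (semi_cast (comp_p2 φ 0 i) (semi_comp h1 hk)) hk' (fun m => ?_) _
  rw [AddMonoidHom.comp_apply, hk1, h2, hk1']

/-- the restriction maps. -/
noncomputable def map {a b : NF} (φ : a ⟶ b) : N.T b.n →+ N.T a.n := (N.exists_map φ).choose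

theorem map_semi {a b : NF} (φ : a ⟶ b) : Semi (rg A φ) (N.map φ) := (N.exists_map φ).choose_spec.1

theorem map_ι {a b : NF} (φ : a ⟶ b) (i : Fin (b.n + 1)) (m : N.M) :
    N.map φ (N.ι b.n i m) = N.ι a.n ((show Fin (b.n + 1) → Fin (a.n + 1) from φ) i) m := (N.exists_map φ).choose_spec.2 i m

/-- the presheaf of modules of a comodule. -/
noncomputable def pm : PM.{max u w} A where
  obj a := N.T a.n
  map φ := N.map φ
  map_smul φ := N.map_semi φ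
  map_id z m := by
    refine eq_of (φ := 𝟙 z) (N.bcι z.n 0) (g := N.map (𝟙 z)) (h := AddMonoidHom.id _) (N.map_semi _)
      (fun a m => by rw [rg_id]; rfl) (fun m => ?_) m
    rw [map_ι]
    rfl
  map_comp {y x z} ψ φ m := by
    refine eq_of (φ := ψ ≫ φ) (N.bcι z.n 0) (g := N.map (ψ ≫ φ)) (h := (N.map ψ).comp (N.map φ)) (N.map_semi _)
      (semi_comp (N.map_semi ψ) (N.map_semi φ)) (fun m => ?_) m
    rw [map_ι, AddMonoidHom.comp_apply, map_ι, map_ι]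
    rfl

theorem pm_cart : N.pm.Cart := fun a b φ => by
  refine bc_of φ (comp_p1 φ 0) (N.bcι b.n 0) (N.map_semi φ) ?_
  have : (N.map φ).comp (N.ι b.n 0) = N.ι a.n ((show Fin (b.n + 1) → Fin (a.n + 1) from φ) 0) :=
    AddMonoidHom.ext fun m => N.map_ι φ 0 m
  exact this ▸ N.bcι a.n _

end Com

end Groth.Agent.ResProp.EF.K686
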