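import Groth.Agent.ResProp.EF.K686.DD

/-!
# Comodules and cartesian presheaves of modules: morphisms, the inverse construction, enough flats, gluing data
-/

set_option autoImplicit false
set_option linter.style.haveILetI false
set_option linter.dupNamespace false

open CategoryTheory Opposite

namespace Groth.Agent.ResProp.EF.K686

open K784.BC K784.PM EF56

universe w₂ w₁ w' w u

variable {A : NFᵒᵖ ⥤ CommRingCat.{u}}

namespace Com

/-- `f` is compatible with the coactions. -/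
def IsHom (N : Com.{w} A) (N' : Com.{w'} A) (f : N.M →ₗ[A.obj (op ⟨0⟩)] N'.M) : Prop :=
  ∀ k : N.T 1 →ₗ[A.obj (op ⟨1⟩)] N'.T 1, (∀ m, k (N.τ 1 m) = N'.τ 1 (f m)) → ∀ m, k (N.ρ m) = N'.ρ (f m)

/-- the base change of a linear map. -/
theorem exists_bc (N : Com.{w} A) (N' : Com.{w'} A) (f : N.M →ₗ[A.obj (op ⟨0⟩)] N'.M) (n : ℕ) :
    ∃ k : N.T n →ₗ[A.obj (op ⟨n⟩)] N'.T n, ∀ m, k (N.τ n m) = N'.τ n (f m) :=
  (N.bcτ n).exists_map (N'.bcτ n).semi f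

/-- it is enough to test one `k`. -/
theorem isHom_iff {N : Com.{w} A} {N' : Com.{w'} A} {f : N.M →ₗ[A.obj (op ⟨0⟩)] N'.M}
    (k : N.T 1 →ₗ[A.obj (op ⟨1⟩)] N'.T 1) (hk : ∀ m, k (N.τ 1 m) = N'.τ 1 (f m)) :
    IsHom N N' f ↔ ∀ m, k (N.ρ m) = N'.ρ (f m) := by
  refine ⟨fun h => h k hk, fun h k' hk' => ?_⟩
  have : k' = k := (N.bcτ 1).hom_ext fun m => by rw [hk', hk]
  rwa [this]

theorem isHom_id (N : Com.{w} A) : IsHom N N LinearMap.id :=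
  (isHom_iff LinearMap.id fun _ => rfl).2 fun _ => rfl

theorem IsHom.comp {N : Com.{w} A} {N' : Com.{w'} A} {N'' : Com.{w₁} A} {f : N.M →ₗ[A.obj (op ⟨0⟩)] N'.M}
    {g : N'.M →ₗ[A.obj (op ⟨0⟩)] N''.M} (hg : IsHom N' N'' g) (hf : IsHom N N' f) : IsHom N N'' (g.comp f) := by
  obtain ⟨k, hk⟩ := N.exists_bc N' f 1
  obtain ⟨k', hk'⟩ := N'.exists_bc N'' g 1
  refine (isHom_iff (k'.comp k) fun m => ?_).2 fun m => ?_
  · rw [LinearMap.comp_apply, hk, hk', LinearMap.comp_apply]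
  · rw [LinearMap.comp_apply, hf k hk, hg k' hk', LinearMap.comp_apply]

theorem IsHom.add {N : Com.{w} A} {N' : Com.{w'} A} {f g : N.M →ₗ[A.obj (op ⟨0⟩)] N'.M}
    (hf : IsHom N N' f) (hg : IsHom N N' g) : IsHom N N' (f + g) := by
  obtain ⟨k, hk⟩ := N.exists_bc N' f 1
  obtain ⟨k', hk'⟩ := N.exists_bc N' g 1
  refine (isHom_iff (k + k') fun m => ?_).2 fun m => ?_
  · rw [LinearMap.add_apply, hk, hk', LinearMap.add_apply, map_add]
  · rw [LinearMap.add_apply, hf k hk, hg k' hk', LinearMap.add_apply, map_add]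

theorem IsHom.neg {N : Com.{w} A} {N' : Com.{w'} A} {f : N.M →ₗ[A.obj (op ⟨0⟩)] N'.M}
    (hf : IsHom N N' f) : IsHom N N' (-f) := by
  obtain ⟨k, hk⟩ := N.exists_bc N' f 1
  refine (isHom_iff (-k) fun m => ?_).2 fun m => ?_
  · rw [LinearMap.neg_apply, hk, LinearMap.neg_apply, map_neg]
  · rw [LinearMap.neg_apply, hf k hk, LinearMap.neg_apply, map_neg]

theorem isHom_zero {N : Com.{w} A} {N' : Com.{w'} A} : IsHom N N' (0 : N.M →ₗ[A.obj (op ⟨0⟩)] N'.M) := by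
  refine (isHom_iff 0 fun m => ?_).2 fun m => ?_
  · rw [LinearMap.zero_apply, LinearMap.zero_apply, map_zero]
  · rw [LinearMap.zero_apply, LinearMap.zero_apply, map_zero]

variable {N : Com.{w} A} {N' : Com.{w'} A}

/-- a morphism of comodules commutes with the vertex maps. -/
theorem IsHom.ι {f : N.M →ₗ[A.obj (op ⟨0⟩)] N'.M} (hf : IsHom N N' f) {n : ℕ} (q : N.T n →ₗ[A.obj (op ⟨n⟩)] N'.T n)
    (hq : ∀ m, q (N.τ n m) = N'.τ n (f m)) (i : Fin (n + 1)) (m : N.M) : q (N.ι n i m) = N'.ι n i (f m) := by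
  obtain ⟨k, hk, hk1, hk2⟩ := N.exists_edge n 0 i
  obtain ⟨k', hk', hk1', hk2'⟩ := N'.exists_edge n 0 i
  obtain ⟨k₁, hk₁⟩ := N.exists_bc N' f 1
  rw [← hk2, ← hk2', ← hf k₁ hk₁]
  have h1 : Semi (rg A (p2 (n := n) 0 i)) (q.toAddMonoidHom.comp k) := fun a x => by
    change q (k (a • x)) = _ • q (k x)
    rw [hk, q.map_smul]
  have h2 : Semi (rg A (p2 (n := n) 0 i)) (k'.comp k₁.toAddMonoidHom) := fun a x => by
    change k' (k₁ (a • x)) = _ • k' (k₁ x)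
    rw [k₁.map_smul, hk']
  refine eq_of (N.bcτ 1) h1 h2 (fun m => ?_) (N.ρ m)
  change q (k (N.τ 1 m)) = k' (k₁ (N.τ 1 m))
  rw [hk1, ι_zero, hq, hk₁, hk1', ι_zero]

/-- the family of maps defined by a morphism of comodules. -/
theorem IsHom.exists_fam {f : N.M →ₗ[A.obj (op ⟨0⟩)] N'.M} (hf : IsHom N N' f) :
    ∃ q : ∀ a : NF, N.pm.obj a →ₗ[A.obj (op a)] N'.pm.obj a,
      (∀ (a : NF) (i : Fin (a.n + 1)) (m : N.M), q a (N.ι a.n i m) = N'.ι a.n i (f m)) ∧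
      ∀ ⦃a b : NF⦄ (φ : a ⟶ b) (e : N.pm.obj b), q a (N.pm.map φ e) = N'.pm.map φ (q b e) := by
  choose q hq using fun a : NF => N.exists_bc N' f a.n
  have hι : ∀ (a : NF) (i : Fin (a.n + 1)) (m : N.M), q a (N.ι a.n i m) = N'.ι a.n i (f m) :=
    fun a i m => hf.ι (q a) (hq a) i m
  refine ⟨q, hι, fun a b φ e => ?_⟩
  have h1 : Semi (rg A φ) ((q a).toAddMonoidHom.comp (N.map φ)) := fun r x => by
    change q a (N.map φ (r • x)) = _ • q a (N.map φ x)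
    rw [N.map_semi, (q a).map_smul]
  have h2 : Semi (rg A φ) ((N'.map φ).comp (q b).toAddMonoidHom) := fun r x => by
    change N'.map φ (q b (r • x)) = _ • N'.map φ (q b x)
    rw [(q b).map_smul, N'.map_semi]
  refine eq_of (N.bcι b.n 0) h1 h2 (fun m => ?_) e
  change q a (N.map φ (N.ι b.n 0 m)) = N'.map φ (q b (N.ι b.n 0 m))
  rw [N.map_ι, hι, hι, N'.map_ι]

section OfPM

variable (P : PM.{w} A) (hP : P.Cart)

include hP in
/-- the comodule of a cartesian presheaf. -/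
theorem exists_ofPM : ∃ N : Com.{w} A, ∃ e₀ : N.M ≃ₗ[A.obj (op ⟨0⟩)] P.obj ⟨0⟩,
    ∃ e : ∀ a : NF, N.T a.n ≃ₗ[A.obj (op a)] P.obj a,
      (∀ (a : NF) (m : N.M), e a (N.τ a.n m) = P.map (p1 (n := a.n) 0) (e₀ m)) ∧
      ∀ m : N.M, e ⟨1⟩ (N.ρ m) = P.map (p1 (n := 1) 1) (e₀ m) := by
  have key : ∀ a : NF, ∃ e : Ten (rg A (p1 (n := a.n) 0)) (P.obj ⟨0⟩) ≃ₗ[A.obj (op a)] P.obj a,
      ∀ m, e (ten _ _ m) = P.map (p1 (n := a.n) 0) m := fun a =>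
    (isBC_ten (rg A (p1 (n := a.n) 0)) (P.obj ⟨0⟩)).exists_equiv (hP (p1 (n := a.n) 0))
  choose e he using key
  have hsymm : ∀ (a : NF) (x : P.obj a), e a ((e a).symm x) = x := fun a x => (e a).apply_symm_apply x
  let N : Com.{w} A :=
    { M := P.obj ⟨0⟩
      ρ := (e ⟨1⟩).symm.toLinearMap.toAddMonoidHom.comp (P.map (p1 (n := 1) 1))
      semi := fun a m => by
        change (e ⟨1⟩).symm (P.map (p1 (n := 1) 1) (a • m)) = _ • (e ⟨1⟩).symm (P.map (p1 (n := 1) 1) m)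
        rw [P.map_smul, _root_.map_smul]
      counit := fun e' h1 h2 m => by
        change e' ((e ⟨1⟩).symm (P.map (p1 (n := 1) 1) m)) = m
        have h3 : ∀ x, e' x = P.map (p2 (n := 0) 0 0) (e ⟨1⟩ x) := fun x => by
          have h4 : Semi (rg A (p2 (n := 0) 0 0)) ((P.map (p2 (n := 0) 0 0)).comp (e ⟨1⟩).toLinearMap.toAddMonoidHom) :=
            fun a x => by
              change P.map (p2 (n := 0) 0 0) (e ⟨1⟩ (a • x)) = _ • P.map (p2 (n := 0) 0 0) (e ⟨1⟩ x)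
              rw [_root_.map_smul, P.map_smul]
          refine eq_of (isBC_ten (rg A (p1 (n := 1) 0)) (P.obj ⟨0⟩)) h1 h4 (fun m => ?_) x
          change e' _ = P.map (p2 (n := 0) 0 0) (e ⟨1⟩ _)
          rw [h2, he, ← P.map_comp, p2_p1_zero, p1_id, P.map_id]
        rw [h3, hsymm, ← P.map_comp, p2_p1_one, p1_id, P.map_id]
      coassoc := fun k01 k12 k02 h1 h3 h2 h1' h2' h3' m => by
        have key2 : ∀ (i j : Fin 3) (k : Ten (rg A (p1 (n := 1) 0)) (P.obj ⟨0⟩) →+ Ten (rg A (p1 (n := 2) 0)) (P.obj ⟨0⟩)),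
            Semi (rg A (p2 (n := 2) i j)) k → (∀ m, e ⟨2⟩ (k (ten _ _ m)) = P.map (p1 (n := 2) i) m) →
            ∀ x, e ⟨2⟩ (k x) = P.map (p2 (n := 2) i j) (e ⟨1⟩ x) := by
          intro i j k hk hk' x
          have h4 : Semi (rg A (p2 (n := 2) i j)) ((P.map (p2 (n := 2) i j)).comp (e ⟨1⟩).toLinearMap.toAddMonoidHom) :=
            fun a x => by
              change P.map (p2 (n := 2) i j) (e ⟨1⟩ (a • x)) = _ • P.map (p2 (n := 2) i j) (e ⟨1⟩ x)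
              rw [_root_.map_smul, P.map_smul]
          have h5 : Semi (rg A (p2 (n := 2) i j)) ((e ⟨2⟩).toLinearMap.toAddMonoidHom.comp k) := fun a x => by
              change e ⟨2⟩ (k (a • x)) = _ • e ⟨2⟩ (k x)
              rw [hk, _root_.map_smul]
          refine eq_of (isBC_ten (rg A (p1 (n := 1) 0)) (P.obj ⟨0⟩)) h5 h4 (fun m => ?_) x
          change e ⟨2⟩ (k _) = P.map (p2 (n := 2) i j) (e ⟨1⟩ _)
          rw [hk', he, ← P.map_comp, p2_p1_zero]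
        have e1 := key2 0 1 k01 h1 (fun m => by rw [h1']; exact he ⟨2⟩ m)
        have e2 := key2 0 2 k02 h2 (fun m => by rw [h2']; exact he ⟨2⟩ m)
        have e3 := key2 1 2 k12 h3 (fun m => by
          rw [h3', e1]
          change P.map (p2 (n := 2) 0 1) (e ⟨1⟩ ((e ⟨1⟩).symm (P.map (p1 (n := 1) 1) m))) = _
          rw [hsymm, ← P.map_comp, p2_p1_one])
        refine (e ⟨2⟩).injective ?_
        rw [e3, e2]
        change P.map (p2 (n := 2) 1 2) (e ⟨1⟩ ((e ⟨1⟩).symm (P.map (p1 (n := 1) 1) m))) =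
          P.map (p2 (n := 2) 0 2) (e ⟨1⟩ ((e ⟨1⟩).symm (P.map (p1 (n := 1) 1) m)))
        rw [hsymm, ← P.map_comp, ← P.map_comp, p2_p1_one, p2_p1_one] }
  exact ⟨N, LinearEquiv.refl _ _, e, he, fun m => hsymm ⟨1⟩ _⟩

/-- the comparison `N.pm ⟶ P`. -/
theorem fam_ι {N : Com.{w'} A} {e₀ : N.M →ₗ[A.obj (op ⟨0⟩)] P.obj ⟨0⟩}
    {e : ∀ a : NF, N.T a.n →ₗ[A.obj (op a)] P.obj a} (he : ∀ (a : NF) (m : N.M), e a (N.τ a.n m) =
      P.map (p1 (n := a.n) 0) (e₀ m)) (hρ : ∀ m : N.M, e ⟨1⟩ (N.ρ m) = P.map (p1 (n := 1) 1) (e₀ m))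
    (a : NF) (i : Fin (a.n + 1)) (m : N.M) : e a (N.ι a.n i m) = P.map (p1 (n := a.n) i) (e₀ m) := by
  obtain ⟨k, hk, hk1, hk2⟩ := N.exists_edge a.n 0 i
  rw [← hk2]
  have h1 : Semi (rg A (p2 (n := a.n) 0 i)) ((e a).toAddMonoidHom.comp k) := fun r x => by
    change e a (k (r • x)) = _ • e a (k x)
    rw [hk, (e a).map_smul]
  have h2 : Semi (rg A (p2 (n := a.n) 0 i)) ((P.map (p2 (n := a.n) 0 i)).comp (e ⟨1⟩).toAddMonoidHom) := fun r x => by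
    change P.map (p2 (n := a.n) 0 i) (e ⟨1⟩ (r • x)) = _ • P.map (p2 (n := a.n) 0 i) (e ⟨1⟩ x)
    rw [(e ⟨1⟩).map_smul, P.map_smul]
  have h3 := eq_of (N.bcτ 1) h1 h2 (fun m => by
    change e a (k (N.τ 1 m)) = P.map (p2 (n := a.n) 0 i) (e ⟨1⟩ (N.τ 1 m))
    rw [hk1, ι_zero, he, he, ← P.map_comp, p2_p1_zero]) (N.ρ m)
  change e a (k (N.ρ m)) = P.map (p2 (n := a.n) 0 i) (e ⟨1⟩ (N.ρ m)) at h3
  rw [h3, hρ, ← P.map_comp, p2_p1_one]

theorem fam_nat {N : Com.{w'} A} {e₀ : N.M →ₗ[A.obj (op ⟨0⟩)] P.obj ⟨0⟩}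
    {e : ∀ a : NF, N.T a.n →ₗ[A.obj (op a)] P.obj a} (he : ∀ (a : NF) (m : N.M), e a (N.τ a.n m) =
      P.map (p1 (n := a.n) 0) (e₀ m)) (hρ : ∀ m : N.M, e ⟨1⟩ (N.ρ m) = P.map (p1 (n := 1) 1) (e₀ m))
    ⦃a b : NF⦄ (φ : a ⟶ b) (x : N.pm.obj b) : e a (N.pm.map φ x) = P.map φ (e b x) := by
  have h1 : Semi (rg A φ) ((e a).toAddMonoidHom.comp (N.map φ)) := fun r x => by
    change e a (N.map φ (r • x)) = _ • e a (N.map φ x)
    rw [N.map_semi, (e a).map_smul]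
  have h2 : Semi (rg A φ) ((P.map φ).comp (e b).toAddMonoidHom) := fun r x => by
    change P.map φ (e b (r • x)) = _ • P.map φ (e b x)
    rw [(e b).map_smul, P.map_smul]
  refine eq_of (N.bcι b.n 0) h1 h2 (fun m => ?_) x
  change e a (N.map φ (N.ι b.n 0 m)) = P.map φ (e b (N.ι b.n 0 m))
  rw [N.map_ι, fam_ι P he hρ, fam_ι P he hρ, ← P.map_comp]
  rfl

end OfPM

/-- **every cartesian presheaf is the presheaf of a comodule**. -/
theorem exists_of_cart (P : PM.{w} A) (hP : P.Cart) : ∃ N : Com.{w} A, ∃ e₀ : N.M ≃ₗ[A.obj (op ⟨0⟩)] P.obj ⟨0⟩,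
    ∃ e : ∀ a : NF, N.pm.obj a ≃ₗ[A.obj (op a)] P.obj a,
      (∀ (a : NF) (i : Fin (a.n + 1)) (m : N.M), e a (N.ι a.n i m) = P.map (p1 (n := a.n) i) (e₀ m)) ∧
      ∀ ⦃a b : NF⦄ (φ : a ⟶ b) (x : N.pm.obj b), e a (N.pm.map φ x) = P.map φ (e b x) := by
  obtain ⟨N, e₀, e, he, hρ⟩ := exists_ofPM P hP
  exact ⟨N, e₀, e, fun a i m => fam_ι P (e₀ := e₀.toLinearMap) (e := fun a => (e a).toLinearMap) he hρ a i m,
    fun a b φ x => fam_nat P (e₀ := e₀.toLinearMap) (e := fun a => (e a).toLinearMap) he hρ φ x⟩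

/-- the value at `⟨0⟩`. -/
noncomputable def e0 (N : Com.{w} A) : N.M ≃+ N.pm.obj ⟨0⟩ :=
  AddEquiv.ofBijective (N.τ 0) (by
    have h0 : IsBC (rg A (𝟙 (⟨0⟩ : NF))) (N.τ 0) := bc_cast p1_id (N.bcτ 0)
    have h : IsBC (RingHom.id (A.obj (op (⟨0⟩ : NF)))) (N.τ 0) := by
      rw [← rg_id]
      exact h0
    obtain ⟨g, hg⟩ := h.exists_equiv (isBC_id (A := A.obj (op ⟨0⟩)) (M := N.M))
    refine ⟨fun a b hab => ((hg a).symm.trans (congrArg g hab)).trans (hg b), fun x => ⟨g x, g.injective (hg (g x))⟩⟩)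

theorem e0_apply (N : Com.{w} A) (m : N.M) : N.e0 m = N.τ 0 m := rfl

theorem e0_smul (N : Com.{w} A) (r : A.obj (op ⟨0⟩)) (m : N.M) : N.e0 (r • m) = r • N.e0 m := by
  have h0 : Semi (rg A (𝟙 (⟨0⟩ : NF))) (N.τ 0) := semi_cast p1_id (N.bcτ 0).semi
  have h := h0 r m
  have h1 : rg A (𝟙 (⟨0⟩ : NF)) r = r := by
    rw [rg_id]
    rfl
  rw [h1] at h
  exact h

/-- the value at `⟨0⟩`. -/
noncomputable def e0L (N : Com.{w} A) : N.M ≃ₗ[A.obj (op ⟨0⟩)] N.pm.obj ⟨0⟩ :=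
  { N.e0 with map_smul' := N.e0_smul }

/-- enough flat comodules. -/
def EFC (A : NFᵒᵖ ⥤ CommRingCat.{u}) : Prop := ∀ N : Com.{u} A, ∃ (F : Com.{u} A) (f : F.M →ₗ[A.obj (op ⟨0⟩)] N.M),
  IsHom F N f ∧ Module.Flat (A.obj (op ⟨0⟩)) F.M ∧ Function.Surjective f

/-- **enough flat comodules give `EF A`.** -/
theorem EFC.ef (h : EFC A) : EF A := by
  intro P hP
  obtain ⟨N, e₀, e, he, hn⟩ := exists_of_cart P hP
  obtain ⟨F, f, hf, hfl, hs⟩ := h N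
  obtain ⟨q, hq, hqn⟩ := hf.exists_fam
  refine ⟨F.pm, fun a => (e a).toLinearMap.comp (q a), F.pm_cart, fun a b φ x => ?_, ?_, fun x => ?_⟩
  · change e a (q a (F.pm.map φ x)) = P.map φ (e b (q b x))
    rw [hqn, hn]
  · exact Module.Flat.of_linearEquiv F.e0L.symm
  · obtain ⟨m, hm⟩ := e₀.surjective x
    obtain ⟨y, hy⟩ := hs m
    refine ⟨F.ι 0 0 y, ?_⟩
    change e ⟨0⟩ (q ⟨0⟩ (F.ι 0 0 y)) = x
    rw [hq ⟨0⟩ 0 y, hy, he ⟨0⟩ 0 m, hm]
    change P.map (p1 (n := 0) 0) x = x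
    rw [p1_id, P.map_id]

end Com

end Groth.Agent.ResProp.EF.K686
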