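import Groth.Agent.ResProp.EF.K686.DD2

/-!
# Comodules from gluing data: `θ : A⟨1⟩ ⊗[s] M ≃ A⟨1⟩ ⊗[t] M` with the cocycle condition over `A⟨2⟩`
-/

set_option autoImplicit false
set_option linter.style.haveILetI false
set_option linter.dupNamespace false

open CategoryTheory Opposite

namespace Groth.Agent.ResProp.EF.K686

open K784.BC K784.PM EF56

universe w₂ w₁ w' w u

variable {A : NFᵒᵖ ⥤ CommRingCat.{u}}

section Glue

variable (M : Type w) [AddCommGroup M] [Module (A.obj (op ⟨0⟩)) M]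

/-- `A⟨n⟩ ⊗ M` along the vertex `i`. -/
abbrev TM (A : NFᵒᵖ ⥤ CommRingCat.{u}) (M : Type w) [AddCommGroup M] [Module (A.obj (op ⟨0⟩)) M] (n : ℕ)
    (i : Fin (n + 1)) : Type (max u w) := Ten (rg A (p1 (n := n) i)) M

/-- the canonical map. -/
noncomputable abbrev tM (A : NFᵒᵖ ⥤ CommRingCat.{u}) (M : Type w) [AddCommGroup M] [Module (A.obj (op ⟨0⟩)) M] (n : ℕ)
    (i : Fin (n + 1)) : M →+ TM A M n i := ten (rg A (p1 (n := n) i)) M

theorem bctM (n : ℕ) (i : Fin (n + 1)) : IsBC (rg A (p1 (n := n) i)) (tM A M n i) := isBC_ten _ _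

variable {M}

/-- `θ'` is the base change of `θ` along the edge `(i, j)`. -/
def Ext (θ : TM A M 1 0 →ₗ[A.obj (op ⟨1⟩)] TM A M 1 1) (n : ℕ) (i j : Fin (n + 1))
    (θ' : TM A M n i →ₗ[A.obj (op ⟨n⟩)] TM A M n j) : Prop :=
  ∀ (u : TM A M 1 0 →+ TM A M n i) (v : TM A M 1 1 →+ TM A M n j), Semi (rg A (p2 (n := n) i j)) u →
    Semi (rg A (p2 (n := n) i j)) v → (∀ m, u (tM A M 1 0 m) = tM A M n i m) → (∀ m, v (tM A M 1 1 m) = tM A M n j m) →
    ∀ x, θ' (u x) = v (θ x)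

variable (M) in
theorem exists_u (n : ℕ) (i j : Fin (n + 1)) : ∃ u : TM A M 1 0 →+ TM A M n i, Semi (rg A (p2 (n := n) i j)) u ∧
    ∀ m, u (tM A M 1 0 m) = tM A M n i m :=
  exists_ext (A := A) (p2 (n := n) i j) (p2_p1_zero i j) (bctM M 1 0) (bctM M n i).semi

variable (M) in
theorem exists_v (n : ℕ) (i j : Fin (n + 1)) : ∃ u : TM A M 1 1 →+ TM A M n j, Semi (rg A (p2 (n := n) i j)) u ∧
    ∀ m, u (tM A M 1 1 m) = tM A M n j m :=
  exists_ext (A := A) (p2 (n := n) i j) (p2_p1_one i j) (bctM M 1 1) (bctM M n j).semi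

/-- base changes exist. -/
theorem exists_Ext (θ : TM A M 1 0 →ₗ[A.obj (op ⟨1⟩)] TM A M 1 1) (n : ℕ) (i j : Fin (n + 1)) :
    ∃ θ' : TM A M n i →ₗ[A.obj (op ⟨n⟩)] TM A M n j, Ext θ n i j θ' := by
  obtain ⟨u, hu, hu'⟩ := exists_u (A := A) M n i j
  obtain ⟨v, hv, hv'⟩ := exists_v (A := A) M n i j
  have h1 : Semi (rg A (p1 (n := n) i)) ((v.comp θ.toAddMonoidHom).comp (tM A M 1 0)) := by
    have e : Semi (rg A (p2 (n := n) i j)) (v.comp θ.toAddMonoidHom) := fun r x => by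
      change v (θ (r • x)) = _ • v (θ x)
      rw [θ.map_smul, hv]
    exact semi_cast (p2_p1_zero i j) (semi_comp e (bctM M 1 0).semi)
  obtain ⟨θ', h2, -⟩ := (bctM M n i).existsUnique_lift _ h1
  refine ⟨θ', fun u' v' hu1 hv1 hu1' hv1' x => ?_⟩
  have hs1 : Semi (rg A (p2 (n := n) i j)) (θ'.toAddMonoidHom.comp u') := fun r x => by
    change θ' (u' (r • x)) = _ • θ' (u' x)
    rw [hu1, θ'.map_smul]
  have hs2 : Semi (rg A (p2 (n := n) i j)) (v'.comp θ.toAddMonoidHom) := fun r x => by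
    change v' (θ (r • x)) = _ • v' (θ x)
    rw [θ.map_smul, hv1]
  refine eq_of (bctM M 1 0) hs1 hs2 (fun m => ?_) x
  change θ' (u' (tM A M 1 0 m)) = v' (θ (tM A M 1 0 m))
  rw [hu1', h2]
  change v (θ (tM A M 1 0 m)) = v' (θ (tM A M 1 0 m))
  exact eq_of (bctM M 1 1) hv hv1 (fun m => by rw [hv', hv1']) _

/-- gluing data. -/
structure IsGlue (θ : TM A M 1 0 ≃ₗ[A.obj (op ⟨1⟩)] TM A M 1 1) : Prop where
  cocycle : ∀ (θ01 : TM A M 2 0 →ₗ[A.obj (op ⟨2⟩)] TM A M 2 1) (θ12 : TM A M 2 1 →ₗ[A.obj (op ⟨2⟩)] TM A M 2 2)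
    (θ02 : TM A M 2 0 →ₗ[A.obj (op ⟨2⟩)] TM A M 2 2), Ext θ.toLinearMap 2 0 1 θ01 → Ext θ.toLinearMap 2 1 2 θ12 →
    Ext θ.toLinearMap 2 0 2 θ02 → ∀ x, θ12 (θ01 x) = θ02 x

/-- it is enough to know the cocycle condition for one choice. -/
theorem IsGlue.mk' (θ : TM A M 1 0 ≃ₗ[A.obj (op ⟨1⟩)] TM A M 1 1) (θ01 : TM A M 2 0 →ₗ[A.obj (op ⟨2⟩)] TM A M 2 1)
    (θ12 : TM A M 2 1 →ₗ[A.obj (op ⟨2⟩)] TM A M 2 2) (θ02 : TM A M 2 0 →ₗ[A.obj (op ⟨2⟩)] TM A M 2 2)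
    (h01 : Ext θ.toLinearMap 2 0 1 θ01) (h12 : Ext θ.toLinearMap 2 1 2 θ12) (h02 : Ext θ.toLinearMap 2 0 2 θ02)
    (h : ∀ x, θ12 (θ01 x) = θ02 x) : IsGlue θ := by
  have uniq : ∀ (i j : Fin 3) (a b : TM A M 2 i →ₗ[A.obj (op ⟨2⟩)] TM A M 2 j), Ext θ.toLinearMap 2 i j a →
      Ext θ.toLinearMap 2 i j b → a = b := by
    intro i j a b ha hb
    obtain ⟨u, hu, hu'⟩ := exists_u (A := A) M 2 i j
    obtain ⟨v, hv, hv'⟩ := exists_v (A := A) M 2 i j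
    refine (bctM M 2 i).hom_ext fun m => ?_
    rw [← hu', ha u v hu hv hu' hv', hb u v hu hv hu' hv']
  refine ⟨fun a b c ha hb hc => ?_⟩
  rw [uniq 0 1 a θ01 ha h01, uniq 1 2 b θ12 hb h12, uniq 0 2 c θ02 hc h02]
  exact h

variable {θ : TM A M 1 0 ≃ₗ[A.obj (op ⟨1⟩)] TM A M 1 1}

/-- coassociativity. -/
theorem IsGlue.coassoc (h : IsGlue θ) (k01 k12 k02 : TM A M 1 0 →+ TM A M 2 0)
    (h1 : Semi (rg A (p2 (n := 2) 0 1)) k01) (h3 : Semi (rg A (p2 (n := 2) 1 2)) k12)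
    (h2 : Semi (rg A (p2 (n := 2) 0 2)) k02)
    (h1' : ∀ m, k01 (tM A M 1 0 m) = tM A M 2 0 m) (h2' : ∀ m, k02 (tM A M 1 0 m) = tM A M 2 0 m)
    (h3' : ∀ m, k12 (tM A M 1 0 m) = k01 (θ.symm (tM A M 1 1 m))) (m : M) :
    k12 (θ.symm (tM A M 1 1 m)) = k02 (θ.symm (tM A M 1 1 m)) := by
  obtain ⟨θ01, e01⟩ := exists_Ext (A := A) θ.toLinearMap 2 0 1
  obtain ⟨θ12, e12⟩ := exists_Ext (A := A) θ.toLinearMap 2 1 2
  obtain ⟨θ02, e02⟩ := exists_Ext (A := A) θ.toLinearMap 2 0 2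
  obtain ⟨v01, hv01, hv01'⟩ := exists_v (A := A) M 2 0 1
  obtain ⟨v02, hv02, hv02'⟩ := exists_v (A := A) M 2 0 2
  obtain ⟨v12, hv12, hv12'⟩ := exists_v (A := A) M 2 1 2
  obtain ⟨u12, hu12, hu12'⟩ := exists_u (A := A) M 2 1 2
  have hc := h.cocycle θ01 θ12 θ02 e01 e12 e02
  have a01 := e01 k01 v01 h1 hv01 h1' hv01'
  have a02 := e02 k02 v02 h2 hv02 h2' hv02'
  have a12 := e12 u12 v12 hu12 hv12 hu12' hv12'
  -- `θ02` is injective: it is the base change of an isomorphism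
  have inj : Function.Injective θ02 := by
    have hk : IsBC (rg A (p2 (n := 2) 0 2)) k02 := by
      refine bc_of _ (p2_p1_zero 0 2) (bctM M 1 0) h2 ?_
      have : k02.comp (tM A M 1 0) = tM A M 2 0 := AddMonoidHom.ext h2'
      exact this ▸ bctM M 2 0
    have hv : IsBC (rg A (p2 (n := 2) 0 2)) v02 := by
      refine bc_of _ (p2_p1_one 0 2) (bctM M 1 1) hv02 ?_
      have : v02.comp (tM A M 1 1) = tM A M 2 2 := AddMonoidHom.ext hv02'
      exact this ▸ bctM M 2 2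
    have hθ : IsBC (RingHom.id _) (θ.toLinearMap.toAddMonoidHom) :=
      isBC_of_bijective Function.bijective_id (fun r m => θ.map_smul r m) θ.bijective
    have hv2 := hθ.comp hv
    rw [RingHom.comp_id] at hv2
    exact (hk.bijective_of_isBC hv2 θ02 fun x => a02 x).1
  -- `θ01 k12 = u12`
  have b : ∀ x, θ01 (k12 x) = u12 x := fun x => by
    have hs : Semi (rg A (p2 (n := 2) 1 2)) (θ01.toAddMonoidHom.comp k12) := fun r x => by
      change θ01 (k12 (r • x)) = _ • θ01 (k12 x)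
      rw [h3, θ01.map_smul]
    refine eq_of (bctM M 1 0) hs hu12 (fun m => ?_) x
    change θ01 (k12 (tM A M 1 0 m)) = u12 (tM A M 1 0 m)
    rw [h3', a01, hu12']
    change v01 (θ (θ.symm (tM A M 1 1 m))) = tM A M 2 1 m
    rw [LinearEquiv.apply_symm_apply, hv01']
  refine inj ?_
  rw [← hc, b, a12, a02]
  change v12 (θ (θ.symm (tM A M 1 1 m))) = v02 (θ (θ.symm (tM A M 1 1 m)))
  rw [LinearEquiv.apply_symm_apply, hv12', hv02']

/-- the counit. -/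
theorem IsGlue.counit (h : IsGlue θ) (e : TM A M 1 0 →+ M) (he : Semi (rg A (p2 (n := 0) 0 0)) e)
    (he' : ∀ m, e (tM A M 1 0 m) = m) (m : M) : e (θ.symm (tM A M 1 1 m)) = m := by
  obtain ⟨k01, h1, h1'⟩ := exists_u (A := A) M 2 0 1
  obtain ⟨k02, h2, h2'⟩ : ∃ k02 : TM A M 1 0 →+ TM A M 2 0, Semi (rg A (p2 (n := 2) 0 2)) k02 ∧
    ∀ m, k02 (tM A M 1 0 m) = tM A M 2 0 m := exists_u (A := A) M 2 0 2
  have hsy : Semi (rg A (p1 (n := 1) 1)) (θ.symm.toLinearMap.toAddMonoidHom.comp (tM A M 1 1)) := fun r x => by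
    change θ.symm (tM A M 1 1 (r • x)) = _ • θ.symm (tM A M 1 1 x)
    rw [(bctM M 1 1).semi, _root_.map_smul]
  obtain ⟨k12, h3, h3'⟩ := exists_ext (A := A) (p2 (n := 2) 1 2) (p2_p1_zero 1 2) (bctM M 1 0)
    (semi_cast (p2_p1_one 0 1) (semi_comp h1 hsy))
  have h4 := h.coassoc k01 k12 k02 h1 h3 h2 h1' h2' h3'
  obtain ⟨v, hv, hv'⟩ := exists_ext (A := A) (p3 (n := 0) 0 0 0) (ψ := p1 (n := 2) 0) (χ := 𝟙 (⟨0⟩ : NF))
    ((by funext x; rfl : _ = p1 (n := 0) 0).trans p1_id) (bctM M 2 0)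
    (g := AddMonoidHom.id M) (fun a m => by rw [rg_id]; rfl)
  have c1 : ∀ x, v (k01 x) = e x := eq_of (bctM M 1 0) (g := v.comp k01) (semi_cast (p3_p2_01 0 0 0) (semi_comp hv h1)) he
    (fun m => by
      change v (k01 (tM A M 1 0 m)) = e (tM A M 1 0 m)
      rw [h1', hv', he']
      rfl)
  have c2 : ∀ x, v (k02 x) = e x := eq_of (bctM M 1 0) (g := v.comp k02) (semi_cast (p3_p2_02 0 0 0) (semi_comp hv h2)) he
    (fun m => by
      change v (k02 (tM A M 1 0 m)) = e (tM A M 1 0 m)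
      rw [h2', hv', he']
      rfl)
  have hid : rg A (𝟙 (⟨0⟩ : NF)) = RingHom.id (A.obj (op (⟨0⟩ : NF))) := rg_id A _
  have hτ1 : p2 (n := 0) 0 0 ≫ p1 (n := 1) 1 = 𝟙 (⟨0⟩ : NF) := (p2_p1_one 0 0).trans p1_id
  have hτ0 : p2 (n := 0) 0 0 ≫ p1 (n := 1) 0 = 𝟙 (⟨0⟩ : NF) := (p2_p1_zero 0 0).trans p1_id
  let g : M →+ M := e.comp (θ.symm.toLinearMap.toAddMonoidHom.comp (tM A M 1 1))
  have hg : Semi (rg A (𝟙 (⟨0⟩ : NF))) g := semi_cast hτ1 (semi_comp he hsy)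
  have c3 : ∀ x, v (k12 x) = g (e x) := eq_of (bctM M 1 0) (g := v.comp k12) (h := g.comp e)
    (semi_cast (p3_p2_12 0 0 0) (semi_comp hv h3)) (semi_cast (Category.id_comp _) (semi_comp hg he))
    (fun m => by
      change v (k12 (tM A M 1 0 m)) = g (e (tM A M 1 0 m))
      rw [h3', he']
      exact c1 _)
  have c4 : ∀ m, g (g m) = g m := fun m => by
    have := congrArg v (h4 m)
    rw [c2] at this
    rw [c3] at this
    exact this
  -- `g` is injective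
  have hbe : IsBC (rg A (p2 (n := 0) 0 0)) e := by
    refine bc_of _ hτ0 (bctM M 1 0) he ?_
    have : e.comp (tM A M 1 0) = AddMonoidHom.id M := AddMonoidHom.ext he'
    rw [this, hid]
    exact isBC_id
  have hθs : IsBC (RingHom.id _) (θ.symm.toLinearMap.toAddMonoidHom) :=
    isBC_of_bijective Function.bijective_id (fun r m => θ.symm.map_smul r m) θ.symm.bijective
  have hbe2 := hθs.comp hbe
  rw [RingHom.comp_id] at hbe2
  have hbg : IsBC (rg A (𝟙 (⟨0⟩ : NF))) g := bc_comp hτ1 (bctM M 1 1) hbe2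
  rw [hid] at hbg
  have inj : Function.Injective g := by
    obtain ⟨a, ha⟩ := hbg.exists_equiv (isBC_id (A := A.obj (op ⟨0⟩)) (M := M))
    intro x y hxy
    exact ((ha x).symm.trans (congrArg a hxy)).trans (ha y)
  exact inj (c4 m)

/-- **the comodule of a gluing datum.** -/
noncomputable def Com.ofGlue (h : IsGlue θ) : Com.{w} A where
  M := M
  ρ := θ.symm.toLinearMap.toAddMonoidHom.comp (tM A M 1 1)
  semi := fun r x => by
    change θ.symm (tM A M 1 1 (r • x)) = _ • θ.symm (tM A M 1 1 x)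
    rw [(bctM M 1 1).semi, _root_.map_smul]
  counit := h.counit
  coassoc := h.coassoc

theorem Com.ofGlue_ρ (h : IsGlue θ) (m : M) : θ ((Com.ofGlue h).ρ m) = tM A M 1 1 m :=
  LinearEquiv.apply_symm_apply _ _

end Glue

end Groth.Agent.ResProp.EF.K686
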