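import Groth.Agent.ResProp.EF.K686.DD
import Groth.Agent.ResProp.EF.K985.EFComod

/-!
# Morphisms of cartesian presheaves are determined by, and constructed from, the levels `⟨0⟩`, `⟨1⟩`
-/

set_option autoImplicit false
set_option linter.style.haveILetI false
set_option linter.dupNamespace false

open CategoryTheory Opposite

namespace Groth.Agent.ResProp.EF.K686

open K784.BC K784.PM EF56 K985

universe w' w u

variable {A : NFᵒᵖ ⥤ CommRingCat.{u}}

/-- a linear map on `⟨0⟩` with equal base changes along the two vertices of `⟨1⟩` extends to a natural family. -/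
theorem exists_fam_of_chart (P : PM.{w} A) (P' : PM.{w'} A) (hP : P.Cart) (f : P.obj ⟨0⟩ →ₗ[A.obj (op ⟨0⟩)] P'.obj ⟨0⟩)
    (g : P.obj ⟨1⟩ →ₗ[A.obj (op ⟨1⟩)] P'.obj ⟨1⟩)
    (h0 : ∀ x, g (P.map (p1 (n := 1) 0) x) = P'.map (p1 (n := 1) 0) (f x))
    (h1 : ∀ x, g (P.map (p1 (n := 1) 1) x) = P'.map (p1 (n := 1) 1) (f x)) :
    ∃ q : ∀ a : NF, P.obj a →ₗ[A.obj (op a)] P'.obj a, q ⟨0⟩ = f ∧
      ∀ ⦃a b : NF⦄ (φ : a ⟶ b) (e : P.obj b), q a (P.map φ e) = P'.map φ (q b e) := by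
  have key : ∀ a : NF, ∃ q : P.obj a →ₗ[A.obj (op a)] P'.obj a,
      ∀ x, q (P.map (p1 (n := a.n) 0) x) = P'.map (p1 (n := a.n) 0) (f x) := fun a =>
    (hP (p1 (n := a.n) 0)).exists_map (P'.map_smul (p1 (n := a.n) 0)) f
  choose q hq using key
  have hv : ∀ (a : NF) (i : Fin (a.n + 1)) (x : P.obj ⟨0⟩),
      q a (P.map (p1 (n := a.n) i) x) = P'.map (p1 (n := a.n) i) (f x) := by
    intro a i x
    have s1 : Semi (rg A (p2 (n := a.n) 0 i)) ((q a).toAddMonoidHom.comp (P.map (p2 (n := a.n) 0 i))) := fun r x => by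
      change q a (P.map _ (r • x)) = _ • q a (P.map _ x)
      rw [P.map_smul, (q a).map_smul]
    have s2 : Semi (rg A (p2 (n := a.n) 0 i)) ((P'.map (p2 (n := a.n) 0 i)).comp g.toAddMonoidHom) := fun r x => by
      change P'.map _ (g (r • x)) = _ • P'.map _ (g x)
      rw [g.map_smul, P'.map_smul]
    have e := eq_of (hP (p1 (n := 1) 0)) s1 s2 (fun x => by
      change q a (P.map (p2 (n := a.n) 0 i) (P.map (p1 (n := 1) 0) x)) =
        P'.map (p2 (n := a.n) 0 i) (g (P.map (p1 (n := 1) 0) x))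
      rw [h0, ← P.map_comp, ← P'.map_comp, p2_p1_zero, hq]) (P.map (p1 (n := 1) 1) x)
    change q a (P.map (p2 (n := a.n) 0 i) (P.map (p1 (n := 1) 1) x)) =
      P'.map (p2 (n := a.n) 0 i) (g (P.map (p1 (n := 1) 1) x)) at e
    rwa [h1, ← P.map_comp, ← P'.map_comp, p2_p1_one] at e
  refine ⟨q, LinearMap.ext fun x => ?_, fun a b φ e => ?_⟩
  · have := hq ⟨0⟩ x
    change q ⟨0⟩ (P.map (p1 (n := 0) 0) x) = P'.map (p1 (n := 0) 0) (f x) at this
    rwa [p1_id, P.map_id, P'.map_id] at this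
  · have s1 : Semi (rg A φ) ((q a).toAddMonoidHom.comp (P.map φ)) := fun r x => by
      change q a (P.map _ (r • x)) = _ • q a (P.map _ x)
      rw [P.map_smul, (q a).map_smul]
    have s2 : Semi (rg A φ) ((P'.map φ).comp (q b).toAddMonoidHom) := fun r x => by
      change P'.map _ (q b (r • x)) = _ • P'.map _ (q b x)
      rw [(q b).map_smul, P'.map_smul]
    refine eq_of (hP (p1 (n := b.n) 0)) s1 s2 (fun x => ?_) e
    change q a (P.map φ (P.map (p1 (n := b.n) 0) x)) = P'.map φ (q b (P.map (p1 (n := b.n) 0) x))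
    rw [← P.map_comp, comp_p1, hv, hv, ← P'.map_comp]
    rfl

/-- the same in `Comod A`. -/
theorem exists_hom_of_chart (M M' : EF56.Comod A) (f : (vst A).obj M ⟶ (vst A).obj M')
    (g : M.obj.obj (op ⟨1⟩) ⟶ M'.obj.obj (op ⟨1⟩))
    (h0 : ∀ x, g.hom ((toPM M.obj).map (p1 (n := 1) 0) x) = (toPM M'.obj).map (p1 (n := 1) 0) (f.hom x))
    (h1 : ∀ x, g.hom ((toPM M.obj).map (p1 (n := 1) 1) x) = (toPM M'.obj).map (p1 (n := 1) 1) (f.hom x)) :
    ∃ q : M ⟶ M', (vst A).map q = f := by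
  obtain ⟨q, hq, hn⟩ := exists_fam_of_chart (toPM M.obj) (toPM M'.obj) M.property f.hom g.hom h0 h1
  refine ⟨ObjectProperty.homMk
    { app := fun X => ModuleCat.ofHom (q X.unop)
      naturality := fun {X Y} φ => by
        ext m
        exact hn φ.unop m }, ?_⟩
  ext x
  exact congr($hq x)

/-- `v^*` is faithful. -/
theorem vst_map_injective {M M' : EF56.Comod A} {p q : M ⟶ M'} (h : (vst A).map p = (vst A).map q) : p = q := by
  ext X m
  have h0 : ∀ x : (toPM M.obj).obj ⟨0⟩, (p.hom.app (op ⟨0⟩)).hom x = (q.hom.app (op ⟨0⟩)).hom x := fun x =>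
    congr(($h).hom x)
  have e : (p.hom.app X).hom = (q.hom.app X).hom := by
    refine (M.property (p1 (n := X.unop.n) 0)).hom_ext fun x => ?_
    have n1 : (p.hom.app X).hom ((toPM M.obj).map (p1 (n := X.unop.n) 0) x) =
        (toPM M'.obj).map (p1 (n := X.unop.n) 0) ((p.hom.app (op ⟨0⟩)).hom x) :=
      PresheafOfModules.naturality_apply p.hom (p1 (n := X.unop.n) 0).op x
    have n2 : (q.hom.app X).hom ((toPM M.obj).map (p1 (n := X.unop.n) 0) x) =
        (toPM M'.obj).map (p1 (n := X.unop.n) 0) ((q.hom.app (op ⟨0⟩)).hom x) :=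
      PresheafOfModules.naturality_apply q.hom (p1 (n := X.unop.n) 0).op x
    exact n1.trans ((congrArg ((toPM M'.obj).map (p1 (n := X.unop.n) 0)) (h0 x)).trans n2.symm)
  exact congr($e m)

end Groth.Agent.ResProp.EF.K686
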