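import Mathlib.Algebra.Homology.Additive

/-!
# `CochainComplex.of` under a functor
-/

set_option autoImplicit false

open CategoryTheory CategoryTheory.Limits

namespace Groth.Agent.ResProp.EF.K686

universe v' v u' u

variable {C : Type u} [Category.{v} C] [HasZeroMorphisms C] {D : Type u'} [Category.{v'} D] [HasZeroMorphisms D]
  (F : C ⥤ D) [F.PreservesZeroMorphisms]

/-- `F` of `CochainComplex.of` is `CochainComplex.of` of `F`. -/
noncomputable def ofMapIso (X : ℤ → C) (d : ∀ n : ℤ, X n ⟶ X (n + 1)) (sq : ∀ n, d n ≫ d (n + 1) = 0)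
    (Y : ℤ → D) (e : ∀ n, F.obj (X n) ≅ Y n) (d' : ∀ n : ℤ, Y n ⟶ Y (n + 1)) (sq' : ∀ n, d' n ≫ d' (n + 1) = 0)
    (h : ∀ n, F.map (d n) ≫ (e (n + 1)).hom = (e n).hom ≫ d' n) :
    (F.mapHomologicalComplex (ComplexShape.up ℤ)).obj (CochainComplex.of X d sq) ≅ CochainComplex.of Y d' sq' :=
  HomologicalComplex.Hom.isoOfComponents (fun n => e n) fun i j hij => by
    obtain rfl : i + 1 = j := hij
    change (e i).hom ≫ CochainComplex.of.d Y d' i (i + 1) =
      F.map (CochainComplex.of.d X d i (i + 1)) ≫ (e (i + 1)).hom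
    rw [CochainComplex.of_d, CochainComplex.of_d]
    exact (h i).symm

end Groth.Agent.ResProp.EF.K686
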