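import Groth.Agent.ResProp.EF.Arch
import Groth.Agent.ResProp.EF.K686.Entry

/-!
# From the chart to `Arch.SObj`: coactions of `E` on all levels from level `⟨0⟩`
-/

set_option autoImplicit false
set_option linter.style.haveILetI false
set_option linter.dupNamespace false

open CategoryTheory Opposite TensorProduct

noncomputable section

namespace Groth.Agent.ResProp.EF.K686

open K784.BC K784.PM EF56 K985 Arch Grp

universe w' w u

/-- natural families out of a cartesian presheaf are determined on the chart. -/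
theorem fam_unique {A : NFᵒᵖ ⥤ CommRingCat.{u}} (P : PM.{w} A) (P' : PM.{w'} A) (hP : P.Cart)
    (q q' : ∀ a : NF, P.obj a →ₗ[A.obj (op a)] P'.obj a)
    (hq : ∀ ⦃a b : NF⦄ (φ : a ⟶ b) (e : P.obj b), q a (P.map φ e) = P'.map φ (q b e))
    (hq' : ∀ ⦃a b : NF⦄ (φ : a ⟶ b) (e : P.obj b), q' a (P.map φ e) = P'.map φ (q' b e))
    (h : ∀ x, q ⟨0⟩ x = q' ⟨0⟩ x) (a : NF) : q a = q' a :=
  (hP (p1 (n := a.n) 0)).hom_ext fun x => by rw [hq, hq', h]

variable {k : Type u} [CommRing k] {A : NFᵒᵖ ⥤ CommRingCat.{u}} [GRF k A]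

/-- `M ⊗ W` as a presheaf of modules. -/
def tenPM (M : PM.{u} A) (W : Type u) [AddCommGroup W] [Module k W] : PM.{u} A where
  obj a := M.obj a ⊗[k] W
  map φ := ((mapk (k := k) M φ).rTensor W).toAddMonoidHom
  map_smul {x z} φ r t := by
    change (mapk (k := k) M φ).rTensor W (r • t) = rg A φ r • (mapk (k := k) M φ).rTensor W t
    induction t using TensorProduct.induction_on with
    | zero => rw [smul_zero, map_zero, smul_zero]
    | tmul m w =>
      rw [TensorProduct.smul_tmul', LinearMap.rTensor_tmul, LinearMap.rTensor_tmul, TensorProduct.smul_tmul']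
      exact congrArg (fun y => y ⊗ₜ[k] w) (M.map_smul φ r m)
    | add s t hs ht => rw [smul_add, map_add, hs, ht, map_add, smul_add]
  map_id z t := by
    change (mapk (k := k) M (𝟙 z)).rTensor W t = t
    have : mapk (k := k) M (𝟙 z) = LinearMap.id := LinearMap.ext fun m => M.map_id z m
    rw [this, LinearMap.rTensor_id]
    rfl
  map_comp {y x z} ψ φ t := by
    change (mapk (k := k) M (ψ ≫ φ)).rTensor W t = (mapk (k := k) M ψ).rTensor W ((mapk (k := k) M φ).rTensor W t)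
    have : mapk (k := k) M (ψ ≫ φ) = (mapk (k := k) M ψ).comp (mapk (k := k) M φ) :=
      LinearMap.ext fun m => M.map_comp ψ φ m
    rw [this, LinearMap.rTensor_comp]
    rfl

theorem tenPM_map (M : PM.{u} A) (W : Type u) [AddCommGroup W] [Module k W] {a b : NF} (φ : a ⟶ b)
    (t : M.obj b ⊗[k] W) : (tenPM (k := k) M W).map φ t = (mapk (k := k) M φ).rTensor W t := rfl

theorem mulk_rTensor (M : PM.{u} A) (W : Type u) [AddCommGroup W] [Module k W] (a : NF) (r : A.obj (op a))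
    (t : M.obj a ⊗[k] W) : (mulk (k := k) M a r).rTensor W t = r • t := by
  induction t using TensorProduct.induction_on with
  | zero => rw [smul_zero, map_zero]
  | tmul m w => rfl
  | add s t hs ht => rw [smul_add, map_add, hs, ht]

/-- the `k`-linear family of an `A`-linear family `M ⟶ M ⊗ W`. -/
abbrev resk {M : PM.{u} A} {W : Type u} [AddCommGroup W] [Module k W] {a : NF}
    (q : M.obj a →ₗ[A.obj (op a)] (M.obj a ⊗[k] W)) : M.obj a →ₗ[k] (M.obj a ⊗[k] W) := q.restrictScalars k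

section Co

variable (E : Gp k) (M : PM.{u} A) (hM : M.Cart)
  (c0 : HopfRep.Comod k E.O (M.obj ⟨0⟩))
  (hlin : ∀ (r : A.obj (op ⟨0⟩)) (m : M.obj ⟨0⟩), c0.coact (r • m) = r • c0.coact m)
  (g : M.obj ⟨1⟩ →ₗ[A.obj (op ⟨1⟩)] (M.obj ⟨1⟩ ⊗[k] E.O))
  (hg0 : ∀ x, g (M.map (p1 (n := 1) 0) x) = (mapk (k := k) M (p1 (n := 1) 0)).rTensor E.O (c0.coact x))
  (hg1 : ∀ x, g (M.map (p1 (n := 1) 1) x) = (mapk (k := k) M (p1 (n := 1) 1)).rTensor E.O (c0.coact x))

include hM hlin hg0 hg1 in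
/-- the coaction on all levels. -/
theorem exists_co : ∃ q : ∀ a : NF, M.obj a →ₗ[A.obj (op a)] (M.obj a ⊗[k] E.O),
    (∀ x, q ⟨0⟩ x = c0.coact x) ∧
      ∀ ⦃a b : NF⦄ (φ : a ⟶ b) (e : M.obj b), q a (M.map φ e) = (mapk (k := k) M φ).rTensor E.O (q b e) := by
  obtain ⟨q, h0, hn⟩ := exists_fam_of_chart M (tenPM (k := k) M E.O) hM
    ({ c0.coact with map_smul' := hlin } : M.obj ⟨0⟩ →ₗ[A.obj (op ⟨0⟩)] (M.obj ⟨0⟩ ⊗[k] E.O)) g hg0 hg1
  exact ⟨q, fun x => congr($h0 x), hn⟩

end Co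

end Groth.Agent.ResProp.EF.K686

end
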