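import Groth.Agent.ResProp.EF.K686.Bic

/-!
# `Arch.SObj` as coalgebras of the comonad `- ⊗ O(E)` on `Comod A`
-/

set_option autoImplicit false
set_option linter.style.haveILetI false
set_option linter.dupNamespace false

open CategoryTheory Opposite TensorProduct

noncomputable section

namespace Groth.Agent.ResProp.EF.K686

open K784.BC K784.PM EF56 K985 Arch Grp

universe w' w u

variable {k : Type u} [CommRing k] {A : NFᵒᵖ ⥤ CommRingCat.{u}} [GRF k A]

section

variable {E : Gp k} (M : PM.{u} A) (e : ECo E M)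

/-- the coaction, `A⟨a⟩`-linear -/
def coL (a : NF) : M.obj a →ₗ[A.obj (op a)] (M.obj a ⊗[k] E.O) :=
  { (e.co a).coact with
    map_smul' := fun r m => by
      change (e.co a).coact (r • m) = r • (e.co a).coact m
      rw [e.lin, mulk_rTensor] }

theorem coL_apply (a : NF) (m : M.obj a) : coL M e a m = (e.co a).coact m := rfl

theorem epsL_coL (a : NF) (m : M.obj a) : epsL (k := k) E.O M a (coL M e a m) = m := by
  have h := congr($((e.co a).counit_comp) m)
  change (Coalgebra.counit (R := k) (A := E.O)).lTensor (M.obj a) ((e.co a).coact m) = m ⊗ₜ[k] (1 : k) at h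
  change TensorProduct.rid k (M.obj a) ((Coalgebra.counit (R := k) (A := E.O)).lTensor (M.obj a)
    ((e.co a).coact m)) = m
  rw [h, TensorProduct.rid_tmul, one_smul]

theorem delL_coL (a : NF) (m : M.obj a) : delL (k := k) E.O M a (coL M e a m) =
    rT (M := M) (M' := tenPM (k := k) M E.O) (k := k) E.O (coL M e a) (coL M e a m) := by
  have h := congr($((e.co a).coassoc) m)
  change TensorProduct.assoc k (M.obj a) E.O E.O ((e.co a).coact.rTensor E.O ((e.co a).coact m)) =
    (Coalgebra.comul (R := k) (A := E.O)).lTensor (M.obj a) ((e.co a).coact m) at h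
  change (TensorProduct.assoc k (M.obj a) E.O E.O).symm ((Coalgebra.comul (R := k) (A := E.O)).lTensor (M.obj a)
    ((e.co a).coact m)) = (e.co a).coact.rTensor E.O ((e.co a).coact m)
  rw [← h, LinearEquiv.symm_apply_apply]

end

variable {E : Gp k} {P : Type u} [CommRing P] [Algebra (A.obj (op ⟨0⟩)) P]

/-- the coalgebra of an `SObj` -/
def coalg (X : SObj k A E P) : (cmd k A E.O).Coalgebra where
  A := ⟨ofPM X.M, toPM_ofPM_cart X.cart⟩
  a := homOf (M := ⟨ofPM X.M, toPM_ofPM_cart X.cart⟩)
    (M' := (tenF (k := k) A E.O).obj ⟨ofPM X.M, toPM_ofPM_cart X.cart⟩)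
    (fun a => coL X.M X.e a) (fun _ _ φ m => X.e.nat φ m)
  counit := hom_ext_fam fun a m => epsL_coL X.M X.e a m
  coassoc := hom_ext_fam fun a m => delL_coL X.M X.e a m

/-- the morphism of coalgebras of a morphism of `SObj`'s -/
def coalgHom {X X' : SObj k A E P} (f : X.Hom X') : coalg X ⟶ coalg X' where
  f := homOf (M := ⟨ofPM X.M, toPM_ofPM_cart X.cart⟩) (M' := ⟨ofPM X'.M, toPM_ofPM_cart X'.cart⟩)
    (fun a => f.f a) (fun _ _ φ m => f.nat φ m)
  h := hom_ext_fam fun a m => (f.equi a m).symm

end Groth.Agent.ResProp.EF.K686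

end
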