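import Groth.Agent.ResProp.EF.K686.DD3
import Groth.Agent.ResProp.EF.K985.EFComod
import Mathlib.CategoryTheory.Preadditive.AdditiveFunctor

/-!
# The category of comodules `Com A` and the equivalence with `EF56.Comod A`
-/

set_option autoImplicit false
set_option linter.style.haveILetI false
set_option linter.dupNamespace false

open CategoryTheory Opposite

namespace Groth.Agent.ResProp.EF.K686

open K784.BC K784.PM EF56 K985

universe w₂ w₁ w' w u

variable {A : NFᵒᵖ ⥤ CommRingCat.{u}}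

namespace Com

/-- morphisms of comodules -/
@[ext]
structure Hom (N N' : Com.{u} A) where
  f : N.M →ₗ[A.obj (op ⟨0⟩)] N'.M
  isHom : IsHom N N' f

instance : Category (Com.{u} A) where
  Hom N N' := Hom N N'
  id N := ⟨LinearMap.id, isHom_id N⟩
  comp f g := ⟨g.f.comp f.f, g.isHom.comp f.isHom⟩

@[ext]
theorem hom_ext' {N N' : Com.{u} A} {f g : N ⟶ N'} (h : Hom.f f = Hom.f g) : f = g := Hom.ext h

@[simp]
theorem id_f (N : Com.{u} A) : Hom.f (𝟙 N) = LinearMap.id := rfl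

@[simp]
theorem comp_f {N N' N'' : Com.{u} A} (f : N ⟶ N') (g : N' ⟶ N'') : Hom.f (f ≫ g) = (Hom.f g).comp (Hom.f f) := rfl

instance (N N' : Com.{u} A) : Zero (N ⟶ N') := ⟨⟨0, isHom_zero⟩⟩
instance (N N' : Com.{u} A) : Add (N ⟶ N') := ⟨fun f g => ⟨Hom.f f + Hom.f g, f.isHom.add g.isHom⟩⟩
instance (N N' : Com.{u} A) : Neg (N ⟶ N') := ⟨fun f => ⟨-Hom.f f, f.isHom.neg⟩⟩

theorem IsHom.nsmul {N N' : Com.{u} A} {f : N.M →ₗ[A.obj (op ⟨0⟩)] N'.M} (hf : IsHom N N' f) (n : ℕ) :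
    IsHom N N' (n • f) := by
  induction n with
  | zero =>
    rw [zero_smul]
    exact isHom_zero
  | succ n ih =>
    rw [add_smul, one_smul]
    exact ih.add hf

theorem IsHom.sub {N N' : Com.{u} A} {f g : N.M →ₗ[A.obj (op ⟨0⟩)] N'.M} (hf : IsHom N N' f) (hg : IsHom N N' g) :
    IsHom N N' (f - g) := by
  rw [sub_eq_add_neg]
  exact hf.add hg.neg

theorem IsHom.zsmul {N N' : Com.{u} A} {f : N.M →ₗ[A.obj (op ⟨0⟩)] N'.M} (hf : IsHom N N' f) (n : ℤ) :
    IsHom N N' (n • f) := by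
  cases n with
  | ofNat n =>
    rw [Int.ofNat_eq_natCast, natCast_zsmul]
    exact hf.nsmul n
  | negSucc n =>
    rw [negSucc_zsmul]
    exact (hf.nsmul _).neg

instance (N N' : Com.{u} A) : Sub (N ⟶ N') := ⟨fun f g => ⟨Hom.f f - Hom.f g, f.isHom.sub g.isHom⟩⟩
instance (N N' : Com.{u} A) : SMul ℕ (N ⟶ N') := ⟨fun n f => ⟨n • Hom.f f, f.isHom.nsmul n⟩⟩
instance (N N' : Com.{u} A) : SMul ℤ (N ⟶ N') := ⟨fun n f => ⟨n • Hom.f f, f.isHom.zsmul n⟩⟩

theorem f_injective {N N' : Com.{u} A} : Function.Injective (Hom.f : (N ⟶ N') → _) := fun _ _ h => Hom.ext h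

instance (N N' : Com.{u} A) : AddCommGroup (N ⟶ N') :=
  Function.Injective.addCommGroup (Hom.f : (N ⟶ N') → (N.M →ₗ[A.obj (op ⟨0⟩)] N'.M)) f_injective rfl
    (fun _ _ => rfl) (fun _ => rfl) (fun _ _ => rfl) (fun _ _ => rfl) (fun _ _ => rfl)

@[simp]
theorem add_f {N N' : Com.{u} A} (f g : N ⟶ N') : Hom.f (f + g) = Hom.f f + Hom.f g := rfl

@[simp]
theorem zero_f {N N' : Com.{u} A} : Hom.f (0 : N ⟶ N') = 0 := rfl

instance : Preadditive (Com.{u} A) where
  add_comp _ _ _ f g h := hom_ext' (LinearMap.comp_add _ _ _)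
  comp_add _ _ _ f g h := hom_ext' (LinearMap.add_comp _ _ _)

variable (A) in
/-- the underlying module -/
def und : Com.{u} A ⥤ ModuleCat.{u} (A.obj (op ⟨0⟩)) where
  obj N := ModuleCat.of _ N.M
  map f := ModuleCat.ofHom (Hom.f f)

instance : (und A).Additive where
  map_add := rfl

instance : (und A).Faithful where
  map_injective {N N'} f g h := hom_ext' (by
    have := congrArg ModuleCat.Hom.hom h
    exact this)

/-- the family of maps of a morphism -/
noncomputable def fam {N N' : Com.{u} A} (f : N ⟶ N') (a : NF) : N.pm.obj a →ₗ[A.obj (op a)] N'.pm.obj a :=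
  f.isHom.exists_fam.choose a

theorem fam_ι' {N N' : Com.{u} A} (f : N ⟶ N') (a : NF) (i : Fin (a.n + 1)) (m : N.M) :
    fam f a (N.ι a.n i m) = N'.ι a.n i (Hom.f f m) := f.isHom.exists_fam.choose_spec.1 a i m

theorem fam_map {N N' : Com.{u} A} (f : N ⟶ N') ⦃a b : NF⦄ (φ : a ⟶ b) (e : N.pm.obj b) :
    fam f a (N.pm.map φ e) = N'.pm.map φ (fam f b e) := f.isHom.exists_fam.choose_spec.2 φ e

theorem eq_fam {N N' : Com.{u} A} (f : N ⟶ N') (a : NF) (q : N.pm.obj a →ₗ[A.obj (op a)] N'.pm.obj a)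
    (h : ∀ m, q (N.ι a.n 0 m) = N'.ι a.n 0 (Hom.f f m)) : q = fam f a :=
  (N.bcι a.n 0).hom_ext fun m => (h m).trans (fam_ι' f a 0 m).symm

variable (A) in
/-- the functor to `Comod A`. -/
noncomputable def toComod : Com.{u} A ⥤ EF56.Comod A where
  obj N := ⟨ofPM N.pm, toPM_ofPM_cart N.pm_cart⟩
  map {N N'} f := ObjectProperty.homMk
    { app := fun X => ModuleCat.ofHom (fam f X.unop)
      naturality := fun {X Y} g => by
        ext m
        exact fam_map f g.unop m }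
  map_id N := by
    ext X m
    change fam (𝟙 N) X.unop m = m
    rw [← eq_fam (𝟙 N) X.unop LinearMap.id (fun _ => rfl)]
    rfl
  map_comp {N N' N''} f g := by
    ext X m
    change fam (f ≫ g) X.unop m = fam g X.unop (fam f X.unop m)
    rw [← eq_fam (f ≫ g) X.unop ((fam g X.unop).comp (fam f X.unop)) (fun m => by
      rw [LinearMap.comp_apply, fam_ι', fam_ι']
      rfl)]
    rfl

theorem toComod_map_app {N N' : Com.{u} A} (f : N ⟶ N') (a : NF) (x : N.pm.obj a) :
    (((toComod A).map f).hom.app (op a)).hom x = fam f a x := rfl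

instance : (toComod A).Additive where
  map_add {N N' f g} := by
    ext X m
    change fam (f + g) X.unop m = fam f X.unop m + fam g X.unop m
    rw [← eq_fam (f + g) X.unop (fam f X.unop + fam g X.unop) (fun m => by
      rw [LinearMap.add_apply, fam_ι', fam_ι']
      exact ((N'.ι X.unop.n 0).map_add (Hom.f f m) (Hom.f g m)).symm)]
    rfl

/-- the value of `toComod` on the chart. -/
noncomputable def vstIso : und A ≅ toComod A ⋙ vst A :=
  NatIso.ofComponents (fun N => (LinearEquiv.toModuleIso N.e0L :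
      ModuleCat.of (A.obj (op ⟨0⟩)) N.M ≅ ModuleCat.of (A.obj (op ⟨0⟩)) (N.pm.obj ⟨0⟩))) fun {N N'} f => by
    ext m
    change N'.τ 0 (Hom.f f m) = fam f ⟨0⟩ (N.τ 0 m)
    have h := fam_ι' f ⟨0⟩ 0 m
    rw [ι_zero, ι_zero] at h
    exact h.symm

theorem vstIso_hom_apply (N : Com.{u} A) (m : N.M) : (vstIso.hom.app N).hom m = N.τ 0 m := rfl

instance : (toComod A).Faithful where
  map_injective {N N'} f g h := by
    have h1 : (toComod A ⋙ vst A).map f = (toComod A ⋙ vst A).map g := congrArg (vst A).map h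
    have h2 : (und A).map f = (und A).map g := by
      rw [← cancel_mono (vstIso.hom.app N'), vstIso.hom.naturality f, vstIso.hom.naturality g, h1]
    exact (und A).map_injective h2

theorem ι_one (N : Com.{u} A) (m : N.M) : N.ι 1 1 m = N.ρ m :=
  N.ι_spec 1 1 (AddMonoidHom.id _) (semi_cast p2_id.symm (fun a m => by rw [rg_id]; rfl)) (fun _ => rfl) m

instance : (toComod A).Full where
  map_surjective {N N'} g := by
    let g0 : N.pm.obj ⟨0⟩ →ₗ[A.obj (op ⟨0⟩)] N'.pm.obj ⟨0⟩ := (g.hom.app (op ⟨0⟩)).hom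
    let g1 : N.pm.obj ⟨1⟩ →ₗ[A.obj (op ⟨1⟩)] N'.pm.obj ⟨1⟩ := (g.hom.app (op ⟨1⟩)).hom
    let f : N.M →ₗ[A.obj (op ⟨0⟩)] N'.M := N'.e0L.symm.toLinearMap.comp (g0.comp N.e0L.toLinearMap)
    have hf : ∀ m, N'.τ 0 (f m) = g0 (N.τ 0 m) := fun m => N'.e0L.apply_symm_apply (g0 (N.e0L m))
    have hn : ∀ (i : Fin 2) (m : N.M), g1 (N.ι 1 i m) = N'.ι 1 i (f m) := fun i m => by
      have h1 : g1 (N.map (p1 (n := 1) i) (N.τ 0 m)) = N'.map (p1 (n := 1) i) (g0 (N.τ 0 m)) :=
        PresheafOfModules.naturality_apply g.hom (p1 (n := 1) i).op (N.τ 0 m)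
      rw [← hf, ← ι_zero, ← ι_zero] at h1
      have h2 := N.map_ι (p1 (n := 1) i) 0 m
      have h3 := N'.map_ι (p1 (n := 1) i) 0 (f m)
      exact (congrArg g1 h2).symm.trans (h1.trans h3)
    have hh : IsHom N N' f := by
      refine (isHom_iff g1 fun m => ?_).2 fun m => ?_
      · rw [← ι_zero, ← ι_zero]
        exact hn 0 m
      · rw [← ι_one, ← ι_one]
        exact hn 1 m
    refine ⟨⟨f, hh⟩, ?_⟩
    ext X x
    have h : (g.hom.app X).hom = fam (⟨f, hh⟩ : N ⟶ N') X.unop := by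
      refine eq_fam (⟨f, hh⟩ : N ⟶ N') X.unop (g.hom.app X).hom fun m => ?_
      have h1 : (g.hom.app X).hom (N.map (p1 (n := X.unop.n) 0) (N.τ 0 m)) =
          N'.map (p1 (n := X.unop.n) 0) (g0 (N.τ 0 m)) :=
        PresheafOfModules.naturality_apply g.hom (p1 (n := X.unop.n) 0).op (N.τ 0 m)
      rw [← hf, ← ι_zero, ← ι_zero] at h1
      exact (congrArg (g.hom.app X).hom (N.map_ι (p1 (n := X.unop.n) 0) 0 m)).symm.trans
        (h1.trans (N'.map_ι (p1 (n := X.unop.n) 0) 0 (f m)))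
    exact (congr($h x)).symm

instance : (toComod A).EssSurj where
  mem_essImage M := by
    obtain ⟨N, e₀, e, he, hn⟩ := exists_of_cart (toPM M.obj) M.property
    refine ⟨N, ⟨ObjectProperty.isoMk _ (PresheafOfModules.isoMk (fun X => LinearEquiv.toModuleIso (e X.unop))
      (fun X Y g => ?_))⟩⟩
    ext m
    exact hn g.unop m

instance : (toComod A).IsEquivalence where

end Com

end Groth.Agent.ResProp.EF.K686
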